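import Cfsg.Agent.Lib.F4TwoMult.Tables
import Cfsg.Agent.Lib.Chevalley.Cover.Sys
import Cfsg.Agent.Lib.Chevalley.Types.F4
import Mathlib.Algebra.CharP.Two
import Mathlib.GroupTheory.Subgroup.Center

/-!
# Root elements of F4(2) and families equivariant under the Weyl group

Over two elements the relations between root elements need only the parity of the structure
constants, and a family equivariant under the fundamental reflections has all relations as soon as
it has those of twelve pairs.
-/

set_option autoImplicit false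
set_option maxRecDepth 20000

open scoped Matrix

namespace Cfsg.Agent.F4TwoMult

open Cfsg.Lie Cfsg.Agent.Chevalley Cfsg.Agent.Chevalley.Cert Cfsg.Agent.Chevalley.Group

/-- The certificate of the datum. -/
theorem hC : Certified chevF4 Cfsg.Agent.Chevalley.Data.F4.tab := Types.F4.certified

/-- The roots occurring in the relation of a pair over two elements. -/
def tm (r s : ℕ) : List ℕ :=
  ((chevF4.commTerms r s).filter fun c => !(c.2.1 % 2 == 0)).map Prod.fst

/-- The pair is neither equal nor opposite. -/
def off (r s : ℕ) : Bool := !(s == r) && !(s == chevF4.neg r)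

/-- The root elements of the pair commute. -/
def com (r s : ℕ) : Bool := off r s && tm r s == []

/-- The action of a word on roots. -/
def w (L : List ℕ) (r : ℕ) : ℕ := wL chevF4 L r

/-- A fundamental reflection, read off the packed table. -/
def refl (i r : ℕ) : ℕ := reflList.getD i 0 / 256 ^ r % 256

theorem w_lt {L : List ℕ} (hL : ∀ i ∈ L, i < 4) {r : ℕ} (hr : r < 48) : w L r < 48 :=
  wL_lt hC hL hr

theorem refl_ok : ((List.range 4).all fun i => (List.range 48).all fun r =>
    refl i r == chevF4.reflectRoot i r) = true := by decide +kernel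

theorem refl_eq {i r : ℕ} (hi : i < 4) (hr : r < 48) : refl i r = chevF4.reflectRoot i r := by
  have := List.all_eq_true.1 (List.all_eq_true.1 refl_ok i (List.mem_range.2 hi)) r
    (List.mem_range.2 hr)
  simpa using this

/-- The action of a word, computed from the packed table. -/
def wT (L : List ℕ) (r : ℕ) : ℕ := L.foldr refl r

theorem wT_eq : ∀ {L : List ℕ}, (∀ i ∈ L, i < 4) → ∀ {r : ℕ}, r < 48 → wT L r = w L r
  | [], _, _, _ => rfl
  | i :: L, hL, r, hr => by
    have hL' : ∀ j ∈ L, j < 4 := fun j hj => hL j (List.mem_cons_of_mem i hj)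
    show refl i (wT L r) = chevF4.reflectRoot i (w L r)
    rw [wT_eq hL' hr, refl_eq (hL i List.mem_cons_self) (w_lt hL' hr)]

/-- The word of a code. -/
def dec5 : ℕ → ℕ → List ℕ
  | 0, _ => []
  | f + 1, n => if n = 0 then [] else (n % 5 - 1) :: dec5 f (n / 5)

/-- An entry of a table. -/
def get2 (T : List (List ℕ)) (r s : ℕ) : ℕ := (T.getD r []).getD s 0

/-- Two roots whose elements commute. -/
def pairCom : List ℕ → Bool
  | [u, v] => decide (u < 48) && decide (v < 48) && com u v
  | _ => false

/-- The orbit and the word of a pair are right. -/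
def orbOK (r s : ℕ) : Bool :=
  let v := get2 orbTab r s
  let L := dec5 40 (v / 12)
  let a := (repList.getD (v % 12) (0, 0)).1
  let b := (repList.getD (v % 12) (0, 0)).2
  L.all (fun i => decide (i < 4)) && decide (a < 48) && decide (b < 48) &&
    (tm a b).all (fun t => decide (t < 48)) && wT L a == r && wT L b == s &&
    (tm r s == (tm a b).map (wT L) || (tm r s == ((tm a b).map (wT L)).reverse && pairCom (tm a b)))

theorem orb_ok0 : ((List.range' 0 16).all fun r => (List.range 48).all fun s =>
    !off r s || orbOK r s) = true := by decide +kernel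

theorem orb_ok1 : ((List.range' 16 16).all fun r => (List.range 48).all fun s =>
    !off r s || orbOK r s) = true := by decide +kernel

theorem orb_ok2 : ((List.range' 32 16).all fun r => (List.range 48).all fun s =>
    !off r s || orbOK r s) = true := by decide +kernel

theorem orb_spec {r s : ℕ} (hr : r < 48) (hs : s < 48) (h : off r s = true) :
    orbOK r s = true := by
  have hh : (List.range 48).all (fun s => !off r s || orbOK r s) = true := by
    rcases Nat.lt_or_ge r 16 with h1 | h1
    · exact List.all_eq_true.1 orb_ok0 r (List.mem_range'_1.2 ⟨by omega, by omega⟩)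
    rcases Nat.lt_or_ge r 32 with h2 | h2
    · exact List.all_eq_true.1 orb_ok1 r (List.mem_range'_1.2 ⟨by omega, by omega⟩)
    · exact List.all_eq_true.1 orb_ok2 r (List.mem_range'_1.2 ⟨by omega, by omega⟩)
  have := List.all_eq_true.1 hh s (List.mem_range.2 hs)
  simpa [h] using this

theorem off_iff {r s : ℕ} : off r s = true ↔ s ≠ r ∧ s ≠ chevF4.neg r := by simp [off]

section Family

variable {H : Type*} [Group H]

/-- The relation of a pair up to a factor. -/
def IsRel (X : ℕ → H) (c : H) (r s : ℕ) : Prop :=
  X s * X r = c * (X r * X s * ((tm r s).map X).prod)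

theorem isRel_com {X : ℕ → H} {r s : ℕ} (h : tm r s = []) :
    IsRel X 1 r s ↔ Commute (X r) (X s) := by
  simp [IsRel, h, Commute, SemiconjBy, eq_comm]

variable {X : ℕ → H} {N : ℕ → H}
  (hN : ∀ i < 4, ∀ r < 48, N i * X r * (N i)⁻¹ = X (chevF4.reflectRoot i r))
include hN

theorem exists_conj : ∀ {L : List ℕ}, (∀ i ∈ L, i < 4) →
    ∃ g : H, ∀ r < 48, g * X r * g⁻¹ = X (w L r)
  | [], _ => ⟨1, fun r _ => by simp [w, wL]⟩
  | i :: L, hL => by
    obtain ⟨g, hg⟩ := exists_conj fun j hj => hL j (List.mem_cons_of_mem i hj)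
    refine ⟨N i * g, fun r hr => ?_⟩
    rw [mul_inv_rev, show N i * g * X r * (g⁻¹ * (N i)⁻¹) = N i * (g * X r * g⁻¹) * (N i)⁻¹ by group,
      hg r hr, hN i (hL i List.mem_cons_self) (w L r)
        (w_lt (fun j hj => hL j (List.mem_cons_of_mem i hj)) hr)]
    rfl

/-- A family equivariant under the reflections has the relations of its representatives. -/
theorem rel_all {c : ℕ → H} (hc : ∀ k g, Commute (c k) g)
    (hrep : ∀ k, k < 12 → IsRel X (c k) (repList.getD k (0, 0)).1 (repList.getD k (0, 0)).2)
    (hone : ∀ k, k < 12 → tm (repList.getD k (0, 0)).1 (repList.getD k (0, 0)).2 = [] → c k = 1) :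
    ∀ r < 48, ∀ s < 48, off r s = true → IsRel X (c (get2 orbTab r s % 12)) r s := by
  suffices step : ∀ r < 48, ∀ s < 48, off r s = true →
      (∀ u < 48, ∀ v < 48, com u v = true → (tm r s).length = 2 → Commute (X u) (X v)) →
      IsRel X (c (get2 orbTab r s % 12)) r s by
    intro r hr s hs h
    refine step r hr s hs h fun u hu v hv huv _ => ?_
    simp only [com, Bool.and_eq_true, beq_iff_eq] at huv
    have h' := step u hu v hv huv.1 fun _ _ _ _ _ h2 => absurd h2 (by rw [huv.2]; simp)
    have ho := orb_spec hu hv huv.1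
    simp only [orbOK, Bool.and_eq_true, Bool.or_eq_true, beq_iff_eq, decide_eq_true_eq,
      List.all_eq_true] at ho
    have hnil : tm (repList.getD (get2 orbTab u v % 12) (0, 0)).1
        (repList.getD (get2 orbTab u v % 12) (0, 0)).2 = [] := by
      rcases ho.2 with e | ⟨e, -⟩ <;> rw [huv.2] at e <;> simpa using e.symm
    rw [hone _ (Nat.mod_lt _ (by norm_num)) hnil] at h'
    exact (isRel_com huv.2).1 h'
  intro r hr s hs h hcomm
  have ho := orb_spec hr hs h
  simp only [orbOK, Bool.and_eq_true, Bool.or_eq_true, beq_iff_eq, decide_eq_true_eq,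
    List.all_eq_true] at ho
  set k := get2 orbTab r s % 12 with hk
  set L := dec5 40 (get2 orbTab r s / 12) with hLdef
  set a := (repList.getD k (0, 0)).1 with ha
  set b := (repList.getD k (0, 0)).2 with hb
  obtain ⟨⟨⟨⟨⟨⟨hL, ha48⟩, hb48⟩, ht⟩, hwa⟩, hwb⟩, htm⟩ := ho
  obtain ⟨g, hg⟩ := exists_conj hN hL
  have hmapw : (tm a b).map (wT L) = (tm a b).map (w L) :=
    List.map_congr_left fun t h' => wT_eq hL (ht t h')
  rw [hmapw] at htm
  rw [wT_eq hL ha48] at hwa
  rw [wT_eq hL hb48] at hwb
  have hab : IsRel X (c k) a b := hrep k (Nat.mod_lt _ (by norm_num))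
  have hmap : ∀ l : List ℕ, (∀ t ∈ l, t < 48) →
      MulAut.conj g (l.map X).prod = ((l.map (w L)).map X).prod := by
    intro l hl
    rw [map_list_prod, List.map_map, List.map_map]
    exact congrArg List.prod (List.map_congr_left fun t h' => by
      simp only [Function.comp_apply, MulAut.conj_apply]; exact hg t (hl t h'))
  have e := congrArg (MulAut.conj g) hab
  rw [map_mul, map_mul, map_mul, map_mul, hmap _ ht] at e
  simp only [MulAut.conj_apply, hg a ha48, hg b hb48, hwa, hwb] at e
  rw [show g * c k * g⁻¹ = c k by rw [← (hc k g).eq, mul_inv_cancel_right]] at e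
  show X s * X r = _
  rw [e]
  congr 2
  rcases htm with h1 | ⟨h1, h2⟩
  · rw [h1]
  · rw [h1]
    revert h2 h1 ht
    rcases tm a b with _ | ⟨u, _ | ⟨v, _ | ⟨_, _⟩⟩⟩ <;> intro ht h1 h2 <;>
      first | simp [pairCom] at h2 | skip
    simp only [List.map_cons, List.map_nil, List.reverse_cons, List.reverse_nil, List.nil_append,
      List.singleton_append, List.prod_cons, List.prod_nil, mul_one]
    have hlen : (tm r s).length = 2 := by rw [h1]; rfl
    have hcu := hcomm u h2.1.1 v h2.1.2 h2.2 hlen
    have := hcu.map (MulAut.conj g).toMonoidHom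
    simpa [MulAut.conj_apply, hg u h2.1.1, hg v h2.1.2] using this.eq

end Family

section Field

variable {F : Type*} [Field F] [Fintype F] (hF : Fintype.card F = 2)
include hF

theorem charP_two : CharP F 2 := by
  haveI := Fact.mk Nat.prime_two
  exact charP_of_card_eq_prime hF

theorem eq_or (t : F) : t = 0 ∨ t = 1 := by
  classical
  have : t ∈ ({0, 1} : Finset F) := by
    rw [Finset.eq_univ_of_card ({0, 1} : Finset F) (by rw [Finset.card_pair zero_ne_one, hF])]
    exact Finset.mem_univ t
  simpa using this

theorem cast_int (c : ℤ) : (c : F) = if c % 2 == 0 then 0 else 1 := by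
  haveI := charP_two hF
  rcases Int.emod_two_eq c with e | e
  · rw [if_pos (by simp [e])]
    exact (CharP.intCast_eq_zero_iff F 2 c).2 (Int.dvd_of_emod_eq_zero e)
  · rw [if_neg (by simp [e]), ← Int.emod_add_mul_ediv c 2, e]
    simp [CharTwo.two_eq_zero]

/-- The right hand side of a relation at ones. -/
theorem word_prod {H : Type*} [Group H] {Y : ℕ → F → H} {X : ℕ → H} (h0 : ∀ k, Y k 0 = 1)
    (h1 : ∀ k, Y k 1 = X k) (r s : ℕ) :
    ((chevF4.commWord F r s 1 1).map fun p => Y p.1 p.2).prod = ((tm r s).map X).prod := by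
  haveI := charP_two hF
  simp only [ChevalleyDatum.commWord, tm, List.map_map, CharTwo.neg_eq, one_pow, mul_one]
  induction chevF4.commTerms r s with
  | nil => rfl
  | cons c l ih =>
    rw [List.map_cons, List.prod_cons, ih, List.filter_cons]
    simp only [Function.comp_apply, cast_int hF c.2.1]
    by_cases h : (c.2.1 % 2 == 0) = true
    · simp [h, h0]
    · simp [h, h1]

end Field

/-- The root element of the parameter one. -/
noncomputable def xr (F : Type*) [Field F] (r : ℕ) : GL chevF4.Idx F := xg hC r 1

/-- The fundamental monomial element. -/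
noncomputable def nr (F : Type*) [Field F] (i : ℕ) : GL chevF4.Idx F :=
  xr F (chevF4.simple i) * xr F (chevF4.neg (chevF4.simple i)) * xr F (chevF4.simple i)

section Group

variable {F : Type*} [Field F] [Fintype F] (hF : Fintype.card F = 2)
include hF

theorem xr_sq (r : ℕ) : xr F r * xr F r = 1 := by
  haveI := charP_two hF
  rw [xr, ← xg_add hC, CharTwo.add_self_eq_zero, xg_zero hC]

theorem xr_rel {r s : ℕ} (hr : r < 48) (hs : s < 48) (h : off r s = true) :
    IsRel (xr F) 1 r s := by
  have h' := Unip.xg_comm hC (D := chevF4) (F := F) (r := r) (s := s) hr hs (off_iff.1 h).1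
    (off_iff.1 h).2 1 1
  rw [word_prod hF (Y := fun k t => xg hC k t) (X := xr F) (fun k => xg_zero hC k)
    (fun _ => rfl)] at h'
  rw [IsRel, one_mul]
  exact h'

theorem nr_conj {i r : ℕ} (hi : i < 4) (hr : r < 48) :
    nr F i * xr F r * (nr F i)⁻¹ = xr F (chevF4.reflectRoot i r) := by
  haveI := charP_two hF
  have e : nr F i = ng hC (chevF4.simple i) (1 : F) := by
    rw [nr, ng, inv_one, CharTwo.neg_eq]
    rfl
  have heta : ((Cfsg.Agent.Chevalley.Data.F4.tab.eta i r : ℤ) : F) = 1 := by
    rcases Certified.eta_cases (T := Cfsg.Agent.Chevalley.Data.F4.tab) i r with h | h <;>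
      simp [h, CharTwo.neg_eq]
  rw [e, xr, ng_conj_x hC (D := chevF4) hi hr, heta, one_mul]
  rfl

end Group

end Cfsg.Agent.F4TwoMult
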