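import Cfsg.Agent.Lib.F4TwoMult.Theta
import Cfsg.Prelude.Def_KGroupFacts
import Mathlib.GroupTheory.Abelianization.Defs

/-!
# A cover of F4(2) from a family with the relations up to sign
-/

set_option autoImplicit false
set_option maxRecDepth 20000
set_option linter.unusedSectionVars false

namespace Cfsg.Agent.F4TwoMult

open Cfsg.Lie Cfsg.Agent.Chevalley Cfsg.Agent.Chevalley.Cover

universe u

variable {F : Type u} [Field F] [Fintype F] (hF : Fintype.card F = 2)
include hF

/-- A family with the relations up to a central involution which three relations put among the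
commutators gives a stem extension with kernel of order two. -/
theorem cover_of_family {GM : Type} [Group GM] [Finite GM] (XM : ℕ → GM) (ZM : GM)
    (ZM_comm : ∀ g, Commute ZM g) (ZM_sq : ZM * ZM = 1) (ZM_ne : ZM ≠ 1)
    (XM_sq : ∀ r < 48, XM r * XM r = 1)
    (hrels : ∀ r < 48, ∀ s < 48, off r s = true → ∃ c ∈ Subgroup.zpowers ZM, IsRel XM c r s)
    (r6 : IsRel XM 1 1 32) (r36 : IsRel XM 1 0 29) (r3 : IsRel XM ZM 7 14) : ∃ (E : Type u) (_ : Group E) (_ : Finite E)
    (σ : E →* ↥(chevF4.group F)), IsStemExtension σ ∧ Nat.card σ.ker = 2 := by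
  haveI hnorm : (Subgroup.zpowers ZM).Normal := ⟨fun n hn g => by
    obtain ⟨k, rfl⟩ := Subgroup.mem_zpowers_iff.1 hn
    rw [← ((ZM_comm g).zpow_left k).eq, mul_inv_cancel_right]
    exact Subgroup.zpow_mem_zpowers ZM k⟩
  let q : GM →* GM ⧸ Subgroup.zpowers ZM := QuotientGroup.mk' _
  obtain ⟨f, hf⟩ := Sys.exists_hom hC (fam_rels hF (X := fun r => q (XM r))
    (fun r hr => by rw [← map_mul, XM_sq r hr, map_one]) fun r hr s hs h => by
      obtain ⟨c, hc, hcr⟩ := hrels r hr s hs h
      have e := congrArg q hcr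
      rw [map_mul, map_mul, map_mul, map_mul, show q c = 1 from (QuotientGroup.eq_one_iff c).2 hc,
        map_list_prod, List.map_map] at e
      exact e)
  obtain ⟨θ, hθ⟩ := exists_theta hF
  let f' : ↥(chevF4.group F) →* GM ⧸ Subgroup.zpowers ZM := f.comp θ.symm.toMonoidHom
  let p : ↥(chevF4.group F) × GM →* ↥(chevF4.group F) := MonoidHom.fst _ _
  let E : Subgroup (↥(chevF4.group F) × GM) :=
    MonoidHom.eqLocus (q.comp (MonoidHom.snd _ _)) (f'.comp p)
  have hmem : ∀ x : ↥(chevF4.group F) × GM, x ∈ E ↔ q x.2 = f' x.1 := fun _ => Iff.rfl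
  let σ : ↥E →* ↥(chevF4.group F) := p.comp E.subtype
  have hxm : ∀ r < 48, xr F r ∈ chevF4.group F := fun r hr => Borel.xg_mem_group hC hr 1
  have hY : ∀ r (hr : r < 48), ((⟨xr F r, hxm r hr⟩, XM r) : ↥(chevF4.group F) × GM) ∈ E := by
    intro r hr
    rw [hmem]
    have e : θ.symm ⟨xr F r, hxm r hr⟩ = chevF4.scGen F r 1 :=
      θ.symm_apply_eq.2 (Subtype.ext (hθ r hr 1).symm)
    show q (XM r) = f (θ.symm _)
    rw [e, hf r hr]
    classical
    exact (if_neg one_ne_zero).symm
  have hZ : ((1, ZM) : ↥(chevF4.group F) × GM) ∈ E := by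
    rw [hmem, map_one]
    exact (QuotientGroup.eq_one_iff ZM).2 (Subgroup.mem_zpowers ZM)
  let ζ : ↥E := ⟨(1, ZM), hZ⟩
  let Y : ℕ → ↥E := fun r => if h : r < 48 then ⟨_, hY r h⟩ else 1
  have hYv : ∀ r, r < 48 → ((Y r : ↥(chevF4.group F) × GM).1 : GL chevF4.Idx F) = xr F r ∧
      (Y r : ↥(chevF4.group F) × GM).2 = XM r := fun r hr => by
    simp only [Y, dif_pos hr, and_self]
  -- relations in the cover
  have hrelY : ∀ (r s : ℕ) (l : List ℕ) (c : ↥E), r < 48 → s < 48 → off r s = true → tm r s = l →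
      (∀ t ∈ l, t < 48) → (c : ↥(chevF4.group F) × GM).1 = 1 →
      IsRel XM (c : ↥(chevF4.group F) × GM).2 r s → IsRel Y c r s := by
    intro r s l c hr hs h hl hl' hc hrel
    subst hl
    let π1 : ↥E →* GL chevF4.Idx F := ((chevF4.group F).subtype.comp p).comp E.subtype
    let π2 : ↥E →* GM := (MonoidHom.snd _ _).comp E.subtype
    have e1 : π1 (Y s * Y r) = π1 (c * (Y r * Y s * ((tm r s).map Y).prod)) := by
      have hc1 : π1 c = 1 := congrArg Subtype.val hc
      have e := xr_rel hF hr hs h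
      rw [IsRel, one_mul] at e
      simp only [map_mul, map_list_prod, List.map_map, hc1, one_mul,
        show π1 (Y r) = xr F r from (hYv r hr).1, show π1 (Y s) = xr F s from (hYv s hs).1, e]
      exact congrArg _ (congrArg List.prod
        (List.map_congr_left fun t ht => ((hYv t (hl' t ht)).1).symm))
    have e2 : π2 (Y s * Y r) = π2 (c * (Y r * Y s * ((tm r s).map Y).prod)) := by
      simp only [map_mul, map_list_prod, List.map_map,
        show π2 (Y r) = XM r from (hYv r hr).2, show π2 (Y s) = XM s from (hYv s hs).2]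
      rw [hrel]
      exact congrArg _ (congrArg _ (congrArg List.prod
        (List.map_congr_left fun t ht => ((hYv t (hl' t ht)).2).symm)))
    exact Subtype.ext (Prod.ext (Subtype.ext e1) e2)
  have hab : ∀ {r s : ℕ} {l : List ℕ} {c : ↥E}, IsRel Y c r s → tm r s = l →
      Abelianization.of c * ((l.map Y).map Abelianization.of).prod = 1 := by
    intro r s l c h hl
    subst hl
    have e := congrArg Abelianization.of h
    simp only [map_mul, map_list_prod] at e
    rw [mul_comm (Abelianization.of (Y s)),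
      mul_left_comm, left_eq_mul] at e
    exact e
  have h6 := hab (hrelY 1 32 [6] 1 (by norm_num) (by norm_num) (by decide +kernel) (by decide +kernel)
    (by simp) rfl r6) (l := [6]) (by decide +kernel)
  have h36 := hab (hrelY 0 29 [3, 6] 1 (by norm_num) (by norm_num) (by decide +kernel)
    (by decide +kernel) (by simp) rfl r36) (l := [3, 6]) (by decide +kernel)
  have h3 := hab (hrelY 7 14 [3] ζ (by norm_num) (by norm_num) (by decide +kernel)
    (by decide +kernel) (by simp) rfl r3) (l := [3]) (by decide +kernel)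
  simp only [List.map_cons, List.map_nil, List.prod_cons, List.prod_nil, mul_one, map_one,
    one_mul] at h6 h36 h3
  rw [h6, mul_one] at h36
  rw [h36, mul_one] at h3
  have hζ : ζ ∈ commutator ↥E := by
    rw [← Abelianization.ker_of]
    exact h3
  have hker : ∀ x : ↥E, σ x = 1 ↔ x ∈ Subgroup.zpowers ζ := fun x => by
    constructor
    · intro hx
      obtain ⟨⟨g, s⟩, hgs⟩ := x
      obtain rfl : g = 1 := hx
      rw [hmem, map_one] at hgs
      obtain ⟨k, hk⟩ := Subgroup.mem_zpowers_iff.1 ((QuotientGroup.eq_one_iff s).1 hgs)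
      exact Subgroup.mem_zpowers_iff.2 ⟨k, Subtype.ext (by simp [ζ, hk])⟩
    · rintro ⟨k, rfl⟩
      show σ (ζ ^ k) = 1
      rw [map_zpow, show σ ζ = 1 from rfl, one_zpow]
  have hkereq : σ.ker = Subgroup.zpowers ζ := by
    ext x; rw [MonoidHom.mem_ker]; exact hker x
  haveI : Finite ↥(chevF4.group F) := inferInstance
  refine ⟨↥E, inferInstance, inferInstance, σ, ⟨?_, ?_, ?_⟩, ?_⟩
  · intro g
    obtain ⟨s, hs⟩ := QuotientGroup.mk'_surjective _ (f' g)
    exact ⟨⟨(g, s), (hmem _).2 hs⟩, rfl⟩
  · rw [hkereq, Subgroup.zpowers_le, Subgroup.mem_center_iff]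
    intro x
    refine Subtype.ext (Prod.ext (by simp [ζ]) ?_)
    simp only [ζ, Subgroup.coe_mul, Prod.snd_mul]
    exact (ZM_comm _).eq.symm
  · rw [hkereq, Subgroup.zpowers_le]
    exact hζ
  · rw [hkereq, Nat.card_zpowers]
    refine orderOf_eq_prime (Subtype.ext ?_) fun h => ZM_ne (congrArg (fun x : ↥E =>
      (x : ↥(chevF4.group F) × GM).2) h)
    simp [ζ, pow_two, ZM_sq]

end Cfsg.Agent.F4TwoMult
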