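import Cfsg.Agent.Lib.F4TwoMult.MatCheck

/-!
# Equivariance under reflection 2, part 1
-/

set_option autoImplicit false
set_option maxRecDepth 20000

namespace Cfsg.Agent.F4TwoMult

theorem equi_2_3 : (List.range' 24 8).all (equiOK 2) = true := by decide +kernel

theorem equi_2_4 : (List.range' 32 8).all (equiOK 2) = true := by decide +kernel

theorem equi_2_5 : (List.range' 40 8).all (equiOK 2) = true := by decide +kernel

end Cfsg.Agent.F4TwoMult
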