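import Cfsg.Agent.Lib.F4TwoMult.MatCheck

/-!
# Equivariance under reflection 3, part 0
-/

set_option autoImplicit false
set_option maxRecDepth 20000

namespace Cfsg.Agent.F4TwoMult

theorem equi_3_0 : (List.range' 0 8).all (equiOK 3) = true := by decide +kernel

theorem equi_3_1 : (List.range' 8 8).all (equiOK 3) = true := by decide +kernel

theorem equi_3_2 : (List.range' 16 8).all (equiOK 3) = true := by decide +kernel

end Cfsg.Agent.F4TwoMult
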