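import Cfsg.Agent.Lib.F4TwoMult.LowerRels

/-!
# The double cover of F4(2)

The root matrices of size 52 over thirteen elements give a stem extension.
-/

set_option autoImplicit false
set_option linter.unusedSectionVars false

namespace Cfsg.Agent.F4TwoMult

open Cfsg.Lie Cfsg.Agent.Chevalley Cfsg.Agent.Chevalley.Cover

/-- What is checked for a family of matrices. -/
structure MatFam {H : Type} [Group H] (X N : ℕ → H) (c : ℕ → H) (Z : H) : Prop where
  equi : ∀ i < 4, ∀ r < 48, N i * X r * (N i)⁻¹ = X (chevF4.reflectRoot i r)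
  comm : ∀ (k : ℕ) (g : H), Commute (c k) g
  mem : ∀ k, c k ∈ Subgroup.zpowers Z
  rep : ∀ k < 12, IsRel X (c k) (repList.getD k (0, 0)).1 (repList.getD k (0, 0)).2
  one : ∀ k < 12, tm (repList.getD k (0, 0)).1 (repList.getD k (0, 0)).2 = [] → c k = 1
theorem matFam : MatFam XM NM sgn ZM := by
  constructor
  · intro i hi r hr
    exact equi_spec hi hr
  · exact sgn_comm
  · exact sgn_mem
  · exact rel_rep
  · exact sgn_one
theorem of_fam {H : Type} [Group H] {X N : ℕ → H} {c : ℕ → H} {Z : H} (h : MatFam X N c Z) :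
    ∀ r < 48, ∀ s < 48, off r s = true → ∃ d ∈ Subgroup.zpowers Z, IsRel X d r s :=
  fun r hr s hs ho => ⟨_, h.mem _, rel_all h.equi h.comm h.rep h.one r hr s hs ho⟩
theorem rels_XM : ∀ r < 48, ∀ s < 48, off r s = true → ∃ d ∈ Subgroup.zpowers ZM, IsRel XM d r s := of_fam matFam

/-- What the cover needs of a family. -/
structure CoverFam {H : Type} [Group H] (X : ℕ → H) (Z : H) : Prop where
  comm : ∀ g, Commute Z g
  zsq : Z * Z = 1
  zne : Z ≠ 1
  sq : ∀ r < 48, X r * X r = 1
  rels : ∀ r < 48, ∀ s < 48, off r s = true → ∃ c ∈ Subgroup.zpowers Z, IsRel X c r s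
  r6 : IsRel X 1 1 32
  r36 : IsRel X 1 0 29
  r3 : IsRel X Z 7 14

theorem coverFam : CoverFam XM ZM := by
  constructor
  · exact ZM_comm
  · exact ZM_sq
  · exact ZM_ne
  · exact fun r hr => XM_sq hr
  · exact rels_XM
  · exact rel_12'
  · exact rel_10'
  · exact rel_13'

theorem finite_GM : Finite GM := inferInstance

universe u

variable {F : Type u} [Field F] [Fintype F] (hF : Fintype.card F = 2)
include hF

theorem cover_of_fam {H : Type} [Group H] (hfin : Finite H) {X : ℕ → H} {Z : H}
    (h : CoverFam X Z) : ∃ (E : Type u) (_ : Group E) (_ : Finite E)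
    (σ : E →* ↥(chevF4.group F)), IsStemExtension σ ∧ Nat.card σ.ker = 2 :=
  cover_of_family hF X Z h.comm h.zsq h.zne h.sq h.rels h.r6 h.r36 h.r3

/-- There is a stem extension of F4(2) with kernel of order two. -/
theorem exists_cover : ∃ (E : Type u) (_ : Group E) (_ : Finite E)
    (σ : E →* ↥(chevF4.group F)), IsStemExtension σ ∧ Nat.card σ.ker = 2 :=
  cover_of_fam hF finite_GM coverFam

end Cfsg.Agent.F4TwoMult
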