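import Cfsg.Agent.Lib.F4TwoMult.MatCheck

/-!
# Relations of the representatives
-/

set_option autoImplicit false
set_option maxRecDepth 20000

namespace Cfsg.Agent.F4TwoMult

theorem rel_0 : relOK 0 1 [] false = true := by decide +kernel

theorem rel_1 : relOK 0 3 [] false = true := by decide +kernel

theorem rel_2 : relOK 0 6 [] false = true := by decide +kernel

theorem rel_3 : relOK 0 10 [] false = true := by decide +kernel

theorem rel_4 : relOK 3 0 [] false = true := by decide +kernel

theorem rel_5 : relOK 3 7 [] false = true := by decide +kernel

theorem rel_6 : relOK 3 15 [] false = true := by decide +kernel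

theorem rel_7 : relOK 3 18 [] false = true := by decide +kernel

theorem rel_8 : relOK 0 24 [1] false = true := by decide +kernel

theorem rel_9 : relOK 3 33 [7] true = true := by decide +kernel

theorem rel_10 : relOK 0 29 [3, 6] false = true := by decide +kernel

theorem rel_11 : relOK 3 41 [18, 0] false = true := by decide +kernel

theorem rel_12 : relOK 1 32 [6] false = true := by decide +kernel

theorem rel_13 : relOK 7 14 [3] true = true := by decide +kernel

end Cfsg.Agent.F4TwoMult
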