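import Cfsg.Agent.Lib.F4TwoMult.MatCheck

/-!
# Involutions, second part
-/

set_option autoImplicit false
set_option maxRecDepth 20000

namespace Cfsg.Agent.F4TwoMult

theorem sq_3 : (List.range' 24 8).all sqOK = true := by decide +kernel

theorem sq_4 : (List.range' 32 8).all sqOK = true := by decide +kernel

theorem sq_5 : (List.range' 40 8).all sqOK = true := by decide +kernel

theorem n_valid : (List.range 4).all (fun i => validP (nP i)) = true := by decide +kernel

theorem n_word : (List.range 4).all (fun i => mulP (nP i) oneP == mulP (mulP (xP ([33, 27, 25, 24].getD i 0)) (xP ([14, 20, 22, 23].getD i 0))) (xP ([33, 27, 25, 24].getD i 0))) = true := by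
  decide +kernel

end Cfsg.Agent.F4TwoMult
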