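import Cfsg.Agent.Lib.F4TwoMult.Cover
import Cfsg.Agent.Lib.F4TwoMult.Equi00
import Cfsg.Agent.Lib.F4TwoMult.Equi01
import Cfsg.Agent.Lib.F4TwoMult.Equi10
import Cfsg.Agent.Lib.F4TwoMult.Equi11
import Cfsg.Agent.Lib.F4TwoMult.Equi20
import Cfsg.Agent.Lib.F4TwoMult.Equi21
import Cfsg.Agent.Lib.F4TwoMult.Equi30
import Cfsg.Agent.Lib.F4TwoMult.Equi31
import Cfsg.Agent.Lib.F4TwoMult.Squares
import Cfsg.Agent.Lib.F4TwoMult.Squares2
import Cfsg.Agent.Lib.F4TwoMult.RepRels
import Mathlib.Data.ZMod.Basic
import Mathlib.GroupTheory.Abelianization.Defs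

/-!
# The matrices satisfy the relations of F4(2) up to sign

The root matrices of size 52 over thirteen elements have the relations of F4(2) up to sign, and
minus the identity is a product of commutators in the cover they give.
-/

set_option autoImplicit false
set_option maxRecDepth 20000
set_option linter.unusedSectionVars false

namespace Cfsg.Agent.F4TwoMult

open Cfsg.Lie Cfsg.Agent.Chevalley Cfsg.Agent.Chevalley.Cover

/-- The invertible matrices of size 52 over thirteen elements. -/
abbrev GM : Type := (Matrix (Fin 52) (Fin 52) (ZMod 13))ˣ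

theorem of_chunks {p : ℕ → Bool} (h0 : (List.range' 0 8).all p = true)
    (h1 : (List.range' 8 8).all p = true) (h2 : (List.range' 16 8).all p = true)
    (h3 : (List.range' 24 8).all p = true) (h4 : (List.range' 32 8).all p = true)
    (h5 : (List.range' 40 8).all p = true) : ∀ r < 48, p r = true := by
  intro r hr
  rcases (by omega : r < 8 ∨ (8 ≤ r ∧ r < 16) ∨ (16 ≤ r ∧ r < 24) ∨ (24 ≤ r ∧ r < 32) ∨
    (32 ≤ r ∧ r < 40) ∨ 40 ≤ r) with h | h | h | h | h | h
  · exact List.all_eq_true.1 h0 r (List.mem_range'_1.2 ⟨by omega, by omega⟩)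
  · exact List.all_eq_true.1 h1 r (List.mem_range'_1.2 ⟨by omega, by omega⟩)
  · exact List.all_eq_true.1 h2 r (List.mem_range'_1.2 ⟨by omega, by omega⟩)
  · exact List.all_eq_true.1 h3 r (List.mem_range'_1.2 ⟨by omega, by omega⟩)
  · exact List.all_eq_true.1 h4 r (List.mem_range'_1.2 ⟨by omega, by omega⟩)
  · exact List.all_eq_true.1 h5 r (List.mem_range'_1.2 ⟨by omega, by omega⟩)

theorem sq_spec {r : ℕ} (hr : r < 48) :
    validP (xP r) = true ∧ toMat (xP r) * toMat (xP r) = 1 := by
  have h := of_chunks sq_0 sq_1 sq_2 sq_3 sq_4 sq_5 r hr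
  simp only [sqOK, Bool.and_eq_true, beq_iff_eq] at h
  exact ⟨h.1, by rw [← toMat_mulP h.1 h.1, h.2, toMat_one.1]⟩

/-- The matrix of a root element. -/
def XM (r : ℕ) : GM :=
  if h : r < 48 then ⟨toMat (xP r), toMat (xP r), (sq_spec h).2, (sq_spec h).2⟩ else 1

theorem XM_val {r : ℕ} (hr : r < 48) : (XM r : Matrix (Fin 52) (Fin 52) (ZMod 13)) = toMat (xP r) := by
  rw [XM, dif_pos hr]

theorem XM_sq {r : ℕ} (hr : r < 48) : XM r * XM r = 1 :=
  Units.ext (by rw [Units.val_mul, XM_val hr, Units.val_one]; exact (sq_spec hr).2)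

/-- Minus the identity. -/
def ZM : GM := -1

/-- The monomial elements. -/
def NM (i : ℕ) : GM :=
  XM ([33, 27, 25, 24].getD i 0) * XM ([14, 20, 22, 23].getD i 0) * XM ([33, 27, 25, 24].getD i 0)

theorem ZM_val : (ZM : Matrix (Fin 52) (Fin 52) (ZMod 13)) = -1 := by
  rw [ZM, Units.val_neg, Units.val_one]

theorem ZM_comm (g : GM) : Commute ZM g :=
  Units.ext (by rw [Units.val_mul, Units.val_mul, ZM_val, neg_one_mul, mul_neg_one])

theorem ZM_sq : ZM * ZM = 1 :=
  Units.ext (by rw [Units.val_mul, ZM_val, neg_one_mul, neg_neg, Units.val_one])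

theorem ZM_ne : ZM ≠ 1 := fun h => by
  have h' : (-1 : Matrix (Fin 52) (Fin 52) (ZMod 13)) = 1 := by
    rw [← ZM_val, h, Units.val_one]
  have h2 := congrFun (congrFun h' ⟨0, by norm_num⟩) ⟨0, by norm_num⟩
  rw [Matrix.neg_apply, Matrix.one_apply_eq] at h2
  revert h2
  decide +kernel

theorem NM_val {i : ℕ} (hi : i < 4) : validP (nP i) = true ∧
    (NM i : Matrix (Fin 52) (Fin 52) (ZMod 13)) = toMat (nP i) := by
  have hv : validP (nP i) = true := List.all_eq_true.1 n_valid i (List.mem_range.2 hi)
  refine ⟨hv, ?_⟩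
  have h := List.all_eq_true.1 n_word i (List.mem_range.2 hi)
  rw [beq_iff_eq] at h
  have hp : [33, 27, 25, 24].getD i 0 < 48 ∧ [14, 20, 22, 23].getD i 0 < 48 := by
    interval_cases i <;> decide
  obtain ⟨vp, -⟩ := sq_spec hp.1
  obtain ⟨vq, -⟩ := sq_spec hp.2
  rw [NM, Units.val_mul, Units.val_mul, XM_val hp.1, XM_val hp.2, ← toMat_mulP vp vq,
    ← toMat_mulP (validP_mulP (valid_spec vp).1 _) vp, ← h, toMat_mulP hv valid_one, toMat_one.1,
    mul_one]

theorem equi_spec {i r : ℕ} (hi : i < 4) (hr : r < 48) :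
    NM i * XM r * (NM i)⁻¹ = XM (chevF4.reflectRoot i r) := by
  have h : equiOK i r = true := by
    interval_cases i
    exacts [of_chunks equi_0_0 equi_0_1 equi_0_2 equi_0_3 equi_0_4 equi_0_5 r hr,
      of_chunks equi_1_0 equi_1_1 equi_1_2 equi_1_3 equi_1_4 equi_1_5 r hr,
      of_chunks equi_2_0 equi_2_1 equi_2_2 equi_2_3 equi_2_4 equi_2_5 r hr,
      of_chunks equi_3_0 equi_3_1 equi_3_2 equi_3_3 equi_3_4 equi_3_5 r hr]
  rw [equiOK, beq_iff_eq, show reflP i r = chevF4.reflectRoot i r from refl_eq hi hr] at h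
  have hr' : chevF4.reflectRoot i r < 48 := hC.reflect_lt hi hr
  obtain ⟨hv, hn⟩ := NM_val hi
  rw [mul_inv_eq_iff_eq_mul]
  refine Units.ext ?_
  rw [Units.val_mul, Units.val_mul, XM_val hr, XM_val hr', hn, ← toMat_mulP hv (sq_spec hr).1,
    ← toMat_mulP (sq_spec hr').1 hv, h]

theorem rhs_spec {r s : ℕ} (hr : r < 48) (hs : s < 48) : ∀ {l : List ℕ}, (∀ t ∈ l, t < 48) →
    validP (rhsP r s l) = true ∧ toMat (rhsP r s l) =
      ((XM r * XM s * (l.map XM).prod : GM) : Matrix (Fin 52) (Fin 52) (ZMod 13)) := by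
  intro l
  induction l using List.reverseRecOn with
  | nil =>
    intro _
    refine ⟨validP_mulP (valid_spec (sq_spec hr).1).1 _, ?_⟩
    rw [List.map_nil, List.prod_nil, mul_one, Units.val_mul, XM_val hr, XM_val hs,
      ← toMat_mulP (sq_spec hr).1 (sq_spec hs).1]
    rfl
  | append_singleton l t ih =>
    intro hl
    obtain ⟨hv, he⟩ := ih fun x hx => hl x (List.mem_append_left _ hx)
    have ht : t < 48 := hl t (List.mem_append_right _ List.mem_cons_self)
    have e : rhsP r s (l ++ [t]) = mulP (rhsP r s l) (xP t) := by simp [rhsP]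
    refine ⟨e ▸ validP_mulP (valid_spec hv).1 _, ?_⟩
    rw [e, toMat_mulP hv (sq_spec ht).1, he, List.map_append, List.prod_append, List.map_singleton,
      List.prod_singleton, ← mul_assoc, ← XM_val ht, ← Units.val_mul]

theorem rel_spec {r s : ℕ} (hr : r < 48) (hs : s < 48) {neg : Bool} {l : List ℕ}
    (hl : tm r s = l) (hl' : ∀ t ∈ l, t < 48) (h : relOK r s l neg = true) :
    IsRel XM (if neg then ZM else 1) r s := by
  subst hl
  obtain ⟨hv, he⟩ := rhs_spec hr hs hl'
  rw [relOK, beq_iff_eq] at h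
  have hl : toMat (lhsP r s) = ((XM s * XM r : GM) : Matrix (Fin 52) (Fin 52) (ZMod 13)) := by
    rw [lhsP, toMat_mulP (sq_spec hs).1 (sq_spec hr).1, Units.val_mul, XM_val hr, XM_val hs]
  refine Units.ext ?_
  rw [← hl, h, Units.val_mul, ← he]
  cases neg
  · simp
  · simp only [if_true, toMat_mulP hv valid_negP, toMat_one.2, ZM, Units.val_neg, Units.val_one]
    simp

/-- The sign of an orbit of pairs. -/
def sgn (k : ℕ) : GM := if k = 9 then ZM else 1

theorem rel_rep : ∀ k < 12, IsRel XM (sgn k) (repList.getD k (0, 0)).1 (repList.getD k (0, 0)).2 := by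
  intro k hk
  interval_cases k
  · exact rel_spec (neg := false) (l := []) (by decide) (by decide) (by decide +kernel) (by simp) rel_0
  · exact rel_spec (neg := false) (l := []) (by decide) (by decide) (by decide +kernel) (by simp) rel_1
  · exact rel_spec (neg := false) (l := []) (by decide) (by decide) (by decide +kernel) (by simp) rel_2
  · exact rel_spec (neg := false) (l := []) (by decide) (by decide) (by decide +kernel) (by simp) rel_3
  · exact rel_spec (neg := false) (l := []) (by decide) (by decide) (by decide +kernel) (by simp) rel_4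
  · exact rel_spec (neg := false) (l := []) (by decide) (by decide) (by decide +kernel) (by simp) rel_5
  · exact rel_spec (neg := false) (l := []) (by decide) (by decide) (by decide +kernel) (by simp) rel_6
  · exact rel_spec (neg := false) (l := []) (by decide) (by decide) (by decide +kernel) (by simp) rel_7
  · exact rel_spec (neg := false) (l := [1]) (by decide) (by decide) (by decide +kernel) (by simp) rel_8
  · exact rel_spec (neg := true) (l := [7]) (by decide) (by decide) (by decide +kernel) (by simp) rel_9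
  · exact rel_spec (neg := false) (l := [3, 6]) (by decide) (by decide) (by decide +kernel) (by simp) rel_10
  · exact rel_spec (neg := false) (l := [18, 0]) (by decide) (by decide) (by decide +kernel) (by simp) rel_11

universe u

variable {F : Type u} [Field F] [Fintype F] (hF : Fintype.card F = 2)
include hF

omit hF in
theorem sgn_comm (k : ℕ) (g : GM) : Commute (sgn k) g := by
  unfold sgn; split
  exacts [ZM_comm g, Commute.one_left g]

omit hF in
theorem ones_ne : ∀ k < 12,
    tm (repList.getD k (0, 0)).1 (repList.getD k (0, 0)).2 = [] → k ≠ 9 := by decide +kernel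

omit hF in
theorem sgn_mem (k : ℕ) : sgn k ∈ Subgroup.zpowers ZM := by
  unfold sgn; split
  exacts [Subgroup.mem_zpowers ZM, one_mem _]

omit hF in
theorem sgn_one : ∀ k < 12,
    tm (repList.getD k (0, 0)).1 (repList.getD k (0, 0)).2 = [] → sgn k = 1 :=
  fun k hk h => if_neg (ones_ne k hk h)

omit hF in
theorem rel_12' : IsRel XM 1 1 32 := by
  have h := rel_spec (r := 1) (s := 32) (neg := false) (l := [6]) (by decide) (by decide)
    (by decide +kernel) (by simp) rel_12
  simpa only [Bool.false_eq_true, if_false] using h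

omit hF in
theorem rel_10' : IsRel XM 1 0 29 := by
  have h := rel_spec (r := 0) (s := 29) (neg := false) (l := [3, 6]) (by decide) (by decide)
    (by decide +kernel) (by simp) rel_10
  simpa only [Bool.false_eq_true, if_false] using h

omit hF in
theorem rel_13' : IsRel XM ZM 7 14 := by
  have h := rel_spec (r := 7) (s := 14) (neg := true) (l := [3]) (by decide) (by decide)
    (by decide +kernel) (by simp) rel_13
  simpa only [if_true] using h

end Cfsg.Agent.F4TwoMult
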