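import Cfsg.Agent.Lib.F4TwoMult.Base
import Cfsg.Agent.Lib.Chevalley.Cover.Lift

/-!
# Lifts of the root elements of F4(2) to a central extension

Lifts of commuting root elements commute. The brackets of the lifts then give a family that is
equivariant under the fundamental reflections, and the only relation it can miss is that of a long
and a short root, by a central involution.
-/

set_option autoImplicit false
set_option maxRecDepth 20000
set_option linter.unusedSectionVars false

open scoped commutatorElement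

namespace Cfsg.Agent.F4TwoMult

open Cfsg.Lie Cfsg.Agent.Chevalley Cfsg.Agent.Chevalley.Cover

/-- The pair of the witness for a commuting pair. -/
def killPair (r s : ℕ) : ℕ × ℕ := ((get2 killTab r s - 1) / 48, (get2 killTab r s - 1) % 48)

/-- A bracket of two elements commuting with the first root shows that the lifts commute. -/
def killOne (r s : ℕ) : Bool :=
  let a := (killPair r s).1
  let b := (killPair r s).2
  decide (a < 48) && com r a && com r b && off a b && tm a b == [s]

/-- The same with a second root for which this is known. -/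
def killTwo (r s : ℕ) : Bool :=
  let a := (killPair r s).1
  let b := (killPair r s).2
  decide (a < 48) && com r a && com r b && off a b &&
    match tm a b with
    | [u, v] => decide (u < 48) && decide (v < 48) &&
        ((u == s && com r v && killOne r v) || (v == s && com r u && killOne r u))
    | _ => false

theorem kill_ok : ((List.range 48).all fun r => (List.range 48).all fun s =>
    !com r s || killOne r s || killTwo r s) = true := by decide +kernel

/-- The chosen decomposition of a root. -/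
def dec (t : ℕ) : ℕ × ℕ := decList.getD t (0, 0)

/-- The list of steps of a code. -/
def decSteps : ℕ → ℕ → List ℕ
  | 0, _ => []
  | f + 1, n => if n = 0 then [] else n % 5 ^ 10 :: decSteps f (n / 5 ^ 10)

/-- The word of the reflection of a step. -/
def stepWord (c : ℕ) : List ℕ :=
  (dec5 10 c).dropLast ++ [(dec5 10 c).getLastD 0] ++ (dec5 10 c).dropLast.reverse

/-- The image of a pair under a step. -/
def moved (c : ℕ) (p : ℕ × ℕ) : ℕ × ℕ := (wT (stepWord c) p.1, wT (stepWord c) p.2)

/-- The reflection of a step fixes the lifts of the element of a root. -/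
def stepOK (t c : ℕ) : Bool :=
  let i := (dec5 10 c).getLastD 0
  let r := wT (dec5 10 c).dropLast.reverse t
  (dec5 10 c).all (fun j => decide (j < 4)) && decide (i < 4) && refl i r == r &&
    com (chevF4.simple i) r && com (chevF4.neg (chevF4.simple i)) r

/-- The steps lead from the chosen decomposition to the pair. -/
def goodOK (a b : ℕ) : Bool :=
  match tm a b with
  | [t] =>
    let v := get2 goodTab a b
    let st := decSteps 3 (v / 2)
    decide (t < 48) && st.all (stepOK t) &&
      (if v % 2 == 0 then st.foldl (fun p c => moved c p) (dec t) == (a, b)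
      else st.foldl (fun p c => moved c p) (dec t) == (b, a) && tm b a == [t])
  | _ => true

theorem good_ok : ((List.range 48).all fun a => (List.range 48).all fun b =>
    !off a b || goodOK a b) = true := by decide +kernel

/-- The chosen decomposition is one and is carried to a decomposition by the reflections. -/
def decOK (t : ℕ) : Bool :=
  let a := (dec t).1
  let b := (dec t).2
  decide (a < 48) && decide (b < 48) && off a b && tm a b == [t] && com a t &&
    (List.range 4).all fun i =>
      off (refl i a) (refl i b) && tm (refl i a) (refl i b) == [refl i t]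

theorem dec_ok : (List.range 48).all decOK = true := by decide +kernel

theorem simple_lt {i : ℕ} (hi : i < 4) : chevF4.simple i < 48 := hC.simple_lt hi

theorem neg_lt {r : ℕ} (hr : r < 48) : chevF4.neg r < 48 := hC.neg_lt hr

theorem com_iff {r s : ℕ} : com r s = true ↔ off r s = true ∧ tm r s = [] := by simp [com]

universe u

variable {F : Type u} [Field F] [Fintype F] (hF : Fintype.card F = 2)
variable {E : Type u} [Group E] {Ψ : E →* GL chevF4.Idx F} (hc : Ψ.ker ≤ Subgroup.center E)
  (hG : chevF4.group F ≤ Ψ.range)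

/-- A preimage. -/
noncomputable def pre (Ψ : E →* GL chevF4.Idx F) (g : GL chevF4.Idx F) : E := Function.invFun Ψ g

/-- A lift of a root element. -/
noncomputable def lf (Ψ : E →* GL chevF4.Idx F) (r : ℕ) : E := pre Ψ (xr F r)

/-- Conjugation by a preimage. -/
noncomputable def act (Ψ : E →* GL chevF4.Idx F) (g : GL chevF4.Idx F) (x : E) : E :=
  pre Ψ g * x * (pre Ψ g)⁻¹

/-- The bracket which sees the relation of a pair. -/
def br (x y : E) : E := y⁻¹ * x⁻¹ * y * x

/-- The normalised lift. -/
noncomputable def nlift (Ψ : E →* GL chevF4.Idx F) (t : ℕ) : E :=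
  br (lf Ψ (dec t).1) (lf Ψ (dec t).2)

/-- A product of fundamental monomial elements. -/
noncomputable def nw (F : Type u) [Field F] (W : List ℕ) : GL chevF4.Idx F :=
  (W.map (nr F)).prod

include hc hG hF

theorem xr_mem {r : ℕ} (hr : r < 48) : xr F r ∈ Ψ.range :=
  hG (Borel.xg_mem_group hC hr 1)

theorem map_pre {g : GL chevF4.Idx F} (hg : g ∈ Ψ.range) : Ψ (pre Ψ g) = g :=
  Function.invFun_eq hg

theorem map_lf {r : ℕ} (hr : r < 48) : Ψ (lf Ψ r) = xr F r := map_pre hF hc hG (xr_mem hF hc hG hr)

theorem nr_mem {i : ℕ} (hi : i < 4) : nr F i ∈ Ψ.range :=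
  mul_mem (mul_mem (xr_mem hF hc hG (simple_lt hi)) (xr_mem hF hc hG (neg_lt (simple_lt hi))))
    (xr_mem hF hc hG (simple_lt hi))

theorem nw_mem {W : List ℕ} (hW : ∀ i ∈ W, i < 4) : nw F W ∈ Ψ.range :=
  list_prod_mem fun g hg => by
    obtain ⟨i, hi, rfl⟩ := List.mem_map.1 hg
    exact nr_mem hF hc hG (hW i hi)

theorem nw_conj : ∀ {W : List ℕ}, (∀ i ∈ W, i < 4) → ∀ {r : ℕ}, r < 48 →
    nw F W * xr F r * (nw F W)⁻¹ = xr F (w W r)
  | [], _, _, _ => by simp [nw, w, Cfsg.Agent.Chevalley.Group.wL]
  | i :: W, hW, r, hr => by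
    have hW' : ∀ j ∈ W, j < 4 := fun j hj => hW j (List.mem_cons_of_mem i hj)
    rw [show nw F (i :: W) = nr F i * nw F W by simp [nw],
      show nr F i * nw F W * xr F r * (nr F i * nw F W)⁻¹ =
        nr F i * (nw F W * xr F r * (nw F W)⁻¹) * (nr F i)⁻¹ by group,
      nw_conj hW' hr, nr_conj hF (hW i List.mem_cons_self) (w_lt hW' hr)]
    rfl

theorem nw_reverse : ∀ W : List ℕ, nw F W * nw F W.reverse = 1
  | [] => by simp [nw]
  | i :: W => by
    have h : nr F i * nr F i = 1 := by
      have hp := xr_sq hF (chevF4.simple i)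
      have hq := xr_sq hF (chevF4.neg (chevF4.simple i))
      simp only [nr, mul_assoc]
      rw [← mul_assoc (xr F (chevF4.simple i)) (xr F (chevF4.simple i)), hp, one_mul,
        ← mul_assoc (xr F (chevF4.neg (chevF4.simple i))) (xr F (chevF4.neg (chevF4.simple i))), hq,
        one_mul, hp]
    have e : nw F (i :: W) * nw F (i :: W).reverse =
        nr F i * (nw F W * nw F W.reverse) * nr F i := by
      simp [nw, mul_assoc]
    rw [e, nw_reverse W, mul_one, h]

theorem br_congr {x x' y y' : E} (hx : Ψ x = Ψ x') (hy : Ψ y = Ψ y') : br x y = br x' y' := by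
  have e : ∀ a b : E, br a b = ⁅b⁻¹, a⁻¹⁆ := fun a b => by simp [br, commutatorElement_def]
  rw [e, e]
  exact Lift.comm_congr hc (by rw [map_inv, map_inv, hy]) (by rw [map_inv, map_inv, hx])

theorem map_br {r s : ℕ} (hr : r < 48) (hs : s < 48) (h : off r s = true) {x y : E}
    (hx : Ψ x = xr F r) (hy : Ψ y = xr F s) : Ψ (br x y) = ((tm r s).map (xr F)).prod := by
  have := xr_rel hF hr hs h
  rw [IsRel, one_mul] at this
  simp only [br, map_mul, map_inv, hx, hy]
  rw [mul_assoc _ (xr F s), this]
  group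

theorem act_br (g : GL chevF4.Idx F) (x y : E) :
    act Ψ g (br x y) = br (act Ψ g x) (act Ψ g y) := by
  simp only [act, br]; group

theorem map_act {g : GL chevF4.Idx F} (hg : g ∈ Ψ.range) (x : E) :
    Ψ (act Ψ g x) = g * Ψ x * g⁻¹ := by
  rw [act, map_mul, map_mul, map_inv, map_pre hF hc hG hg]

theorem conj_congr {a b : E} (h : Ψ a = Ψ b) (x : E) : a * x * a⁻¹ = b * x * b⁻¹ := by
  obtain ⟨z, hz, rfl⟩ := Lift.exists_central h
  calc z * b * x * (z * b)⁻¹ = (z * (b * x * b⁻¹)) * z⁻¹ := by group
    _ = (b * x * b⁻¹ * z) * z⁻¹ := by rw [Lift.comm_central hc hz]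
    _ = _ := mul_inv_cancel_right _ _

theorem act_mul {g h : GL chevF4.Idx F} (hg : g ∈ Ψ.range) (hh : h ∈ Ψ.range) (x : E) :
    act Ψ (g * h) x = act Ψ g (act Ψ h x) := by
  rw [act, conj_congr hF hc hG (b := pre Ψ g * pre Ψ h) (by
    rw [map_mul, map_pre hF hc hG hg, map_pre hF hc hG hh, map_pre hF hc hG (mul_mem hg hh)])]
  simp only [act]; group

theorem act_one (x : E) : act Ψ 1 x = x := by
  rw [act, conj_congr hF hc hG (b := 1) (by rw [map_one, map_pre hF hc hG (one_mem _)])]
  group

theorem lifts_commute {r s : ℕ} (hr : r < 48) (hs : s < 48) (h : com r s = true) {x y : E}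
    (hx : Ψ x = xr F r) (hy : Ψ y = xr F s) : Commute x y := by
  have hbr : ∀ {r a : ℕ}, r < 48 → a < 48 → com r a = true → ∀ {x : E}, Ψ x = xr F r →
      Ψ ⁅x, (lf Ψ a)⁻¹⁆ = 1 := by
    intro r a hr ha h x hx
    rw [map_commutatorElement, map_inv, commutatorElement_eq_one_iff_mul_comm, hx,
      map_lf hF hc hG ha]
    have h' := xr_rel hF hr ha (com_iff.1 h).1
    have hcm : Commute (xr F r) (xr F a) := (isRel_com (com_iff.1 h).2).1 h'
    exact hcm.inv_right.eq
  have one : ∀ {r s : ℕ}, r < 48 → killOne r s = true → ∀ {x y : E}, Ψ x = xr F r →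
      Ψ y = xr F s → Commute x y := by
    intro r s hr h x y hx hy
    simp only [killOne, Bool.and_eq_true, decide_eq_true_eq, beq_iff_eq] at h
    obtain ⟨⟨⟨⟨ha, h1⟩, h2⟩, h3⟩, h4⟩ := h
    have hb : (killPair r s).2 < 48 := Nat.mod_lt _ (by norm_num)
    refine Lift.commute_bracket hc (hbr hr hb h2 hx) (hbr hr ha h1 hx) ?_
    have e := map_br hF hc hG ha hb h3 (map_lf hF hc hG ha) (map_lf hF hc hG hb)
    rw [h4] at e
    simp only [List.map_cons, List.map_nil, List.prod_cons, List.prod_nil, mul_one] at e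
    rw [hy, ← e, br, commutatorElement_def, inv_inv, inv_inv]
  have hk := List.all_eq_true.1 (List.all_eq_true.1 kill_ok r (List.mem_range.2 hr)) s
    (List.mem_range.2 hs)
  simp only [h, Bool.not_true, Bool.false_or, Bool.or_eq_true] at hk
  rcases hk with h' | h'
  · exact one hr h' hx hy
  simp only [killTwo, Bool.and_eq_true, decide_eq_true_eq] at h'
  obtain ⟨⟨⟨⟨ha, h1⟩, h2⟩, h3⟩, h4⟩ := h'
  have hb : (killPair r s).2 < 48 := Nat.mod_lt _ (by norm_num)
  have e := map_br hF hc hG ha hb h3 (map_lf hF hc hG ha) (map_lf hF hc hG hb)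
  revert h4 e
  split
  · rename_i u v he
    rw [he]
    intro h4 e
    simp only [Bool.and_eq_true, decide_eq_true_eq, Bool.or_eq_true, beq_iff_eq] at h4
    obtain ⟨⟨hu, hv⟩, h4⟩ := h4
    simp only [List.map_cons, List.map_nil, List.prod_cons, List.prod_nil, mul_one] at e
    have huv : Commute x (lf Ψ u * lf Ψ v) := by
      refine Lift.commute_bracket hc (hbr hr hb h2 hx) (hbr hr ha h1 hx) ?_
      rw [map_mul, map_lf hF hc hG hu, map_lf hF hc hG hv, ← e, br, commutatorElement_def, inv_inv,
        inv_inv]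
    have key : ∀ {t : ℕ}, t < 48 → t = s → Commute x (lf Ψ t) → Commute x y := by
      intro t ht e' h'
      obtain ⟨z, hz, rfl⟩ := Lift.exists_central (show Ψ y = Ψ (lf Ψ t) by
        rw [hy, map_lf hF hc hG ht, e'])
      exact (show Commute x z from (Lift.comm_central hc hz x).symm).mul_right h'
    rcases h4 with ⟨⟨e', -⟩, hk'⟩ | ⟨⟨e', -⟩, hk'⟩
    · have hv' : Commute x (lf Ψ v) := one hr hk' hx (map_lf hF hc hG hv)
      exact key hu e' (by simpa using huv.mul_right hv'.inv_right)
    · have hu' : Commute x (lf Ψ u) := one hr hk' hx (map_lf hF hc hG hu)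
      exact key hv e' (by simpa using hu'.inv_right.mul_right huv)
  · intro h4 _
    exact absurd h4 (by simp)

theorem br_sq {a b : ℕ} (ha : a < 48) (hb : b < 48) (h : off a b = true)
    (hcm : ∀ t ∈ tm a b, t < 48 ∧ com a t = true) {x y : E} (hx : Ψ x = xr F a)
    (hy : Ψ y = xr F b) : br x y * br x y = 1 := by
  have hz : ∀ g, Commute (x * x) g := fun g =>
    Lift.comm_central hc (by rw [map_mul, hx, xr_sq hF]) g
  obtain ⟨z, hz', e⟩ := Lift.exists_central (π := Ψ) (a := br x y)
    (a' := ((tm a b).map (lf Ψ)).prod) (by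
      rw [map_br hF hc hG ha hb h hx hy, map_list_prod, List.map_map]
      exact congrArg List.prod (List.map_congr_left fun t ht =>
        (map_lf hF hc hG (hcm t ht).1).symm))
  have hcx : Commute x (br x y) := by
    rw [e]
    refine (show Commute x z from (Lift.comm_central hc hz' x).symm).mul_right
      (Commute.list_prod_right _ _ fun g hg => ?_)
    obtain ⟨t, ht, rfl⟩ := List.mem_map.1 hg
    exact lifts_commute hF hc hG ha (hcm t ht).1 (hcm t ht).2 hx (map_lf hF hc hG (hcm t ht).1)
  calc br x y * br x y = (br x y * x⁻¹) * (x * br x y) := by group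
    _ = (br x y * x⁻¹) * (br x y * x⁻¹) * (x * x) := by rw [hcx.eq]; group
    _ = y⁻¹ * (x * x)⁻¹ * y * (x * x) := by simp only [br]; group
    _ = 1 := by
      rw [← ((hz y⁻¹).inv_left).eq]; group

theorem fix_act {i r : ℕ} (hi : i < 4) (hr : r < 48) (h1 : com (chevF4.simple i) r = true)
    (h2 : com (chevF4.neg (chevF4.simple i)) r = true) {y : E} (hy : Ψ y = xr F r) :
    act Ψ (nr F i) y = y := by
  have hp := simple_lt hi
  have hq := neg_lt hp
  rw [act, conj_congr hF hc hG (b := lf Ψ (chevF4.simple i) * lf Ψ (chevF4.neg (chevF4.simple i)) *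
    lf Ψ (chevF4.simple i)) (by
      rw [map_pre hF hc hG (nr_mem hF hc hG hi), map_mul, map_mul, map_lf hF hc hG hp,
        map_lf hF hc hG hq]; rfl)]
  have c1 : Commute (lf Ψ (chevF4.simple i)) y :=
    lifts_commute hF hc hG hp hr h1 (map_lf hF hc hG hp) hy
  have c2 : Commute (lf Ψ (chevF4.neg (chevF4.simple i))) y :=
    lifts_commute hF hc hG hq hr h2 (map_lf hF hc hG hq) hy
  rw [((c1.mul_left c2).mul_left c1).eq, mul_inv_cancel_right]

theorem dec_spec {t : ℕ} (ht : t < 48) : (dec t).1 < 48 ∧ (dec t).2 < 48 ∧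
    off (dec t).1 (dec t).2 = true ∧ tm (dec t).1 (dec t).2 = [t] ∧ com (dec t).1 t = true ∧
    ∀ i < 4, off (refl i (dec t).1) (refl i (dec t).2) = true ∧
      tm (refl i (dec t).1) (refl i (dec t).2) = [refl i t] := by
  have h := List.all_eq_true.1 dec_ok t (List.mem_range.2 ht)
  simp only [decOK, Bool.and_eq_true, decide_eq_true_eq, beq_iff_eq, List.all_eq_true,
    List.mem_range] at h
  exact ⟨h.1.1.1.1.1, h.1.1.1.1.2, h.1.1.1.2, h.1.1.2, h.1.2, h.2⟩

theorem map_nlift {t : ℕ} (ht : t < 48) : Ψ (nlift Ψ t) = xr F t := by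
  obtain ⟨ha, hb, h, htm, -, -⟩ := dec_spec hF hc hG ht
  rw [nlift, map_br hF hc hG ha hb h (map_lf hF hc hG ha) (map_lf hF hc hG hb), htm]
  simp

theorem nlift_sq {t : ℕ} (ht : t < 48) : nlift Ψ t * nlift Ψ t = 1 := by
  obtain ⟨ha, hb, h, htm, hcm, -⟩ := dec_spec hF hc hG ht
  refine br_sq hF hc hG ha hb h (fun u hu => ?_) (map_lf hF hc hG ha) (map_lf hF hc hG hb)
  rw [htm, List.mem_singleton] at hu
  subst hu
  exact ⟨ht, hcm⟩

theorem br_eq_nlift {a b t : ℕ} (ha : a < 48) (hb : b < 48) (h : off a b = true)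
    (htm : tm a b = [t]) {x y : E} (hx : Ψ x = xr F a) (hy : Ψ y = xr F b) :
    br x y = nlift Ψ t := by
  rw [br_congr hF hc hG (hx.trans (map_lf hF hc hG ha).symm) (hy.trans (map_lf hF hc hG hb).symm)]
  have hk := List.all_eq_true.1 (List.all_eq_true.1 good_ok a (List.mem_range.2 ha)) b
    (List.mem_range.2 hb)
  simp only [h, Bool.not_true, Bool.false_or, goodOK, htm, Bool.and_eq_true, decide_eq_true_eq,
    List.all_eq_true] at hk
  obtain ⟨⟨ht, hst⟩, hk⟩ := hk
  have hfix : ∀ l : List ℕ, (∀ c ∈ l, stepOK t c = true) → ∀ p : ℕ × ℕ, p.1 < 48 → p.2 < 48 →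
      br (lf Ψ p.1) (lf Ψ p.2) = nlift Ψ t →
      br (lf Ψ (l.foldl (fun p c => moved c p) p).1) (lf Ψ (l.foldl (fun p c => moved c p) p).2) =
        nlift Ψ t := by
    intro l
    induction l with
    | nil => intro _ p _ _ e; exact e
    | cons c l ih =>
      intro hl p h1 h2 e
      have hs := hl c List.mem_cons_self
      simp only [stepOK, Bool.and_eq_true, decide_eq_true_eq, beq_iff_eq, List.all_eq_true] at hs
      obtain ⟨⟨⟨⟨hL, hi⟩, -⟩, hp⟩, hq⟩ := hs
      set L := (dec5 10 c).dropLast with hLdef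
      set i := (dec5 10 c).getLastD 0 with hidef
      have hL' : ∀ j ∈ L, j < 4 := fun j hj => hL j (List.mem_of_mem_dropLast hj)
      have hLr : ∀ j ∈ L.reverse, j < 4 := fun j hj => hL' j (List.mem_reverse.1 hj)
      have hW : ∀ j ∈ stepWord c, j < 4 := by
        intro j hj
        simp only [stepWord, List.mem_append, List.mem_singleton] at hj
        rcases hj with (hj | rfl) | hj
        exacts [hL' j hj, hi, hLr j hj]
      rw [wT_eq hLr ht] at hp hq
      have hWm := nw_mem hF hc hG hW
      have e2 : act Ψ (nw F (stepWord c)) (nlift Ψ t) = nlift Ψ t := by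
        have e3 : nw F (stepWord c) = nw F L * nr F i * nw F L.reverse := by
          simp only [nw, stepWord, ← hLdef, ← hidef, List.map_append, List.map_cons, List.map_nil,
            List.prod_append, List.prod_cons, List.prod_nil, mul_one, mul_assoc]
        have m1 := nw_mem hF hc hG hL'
        have m2 := nr_mem hF hc hG hi
        have m3 := nw_mem hF hc hG hLr
        rw [e3, act_mul hF hc hG (mul_mem m1 m2) m3, act_mul hF hc hG m1 m2,
          fix_act hF hc hG hi (w_lt hLr ht) hp hq (by
            rw [map_act hF hc hG m3, map_nlift hF hc hG ht, nw_conj hF hc hG hLr ht]),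
          ← act_mul hF hc hG m1 m3, nw_reverse hF hc hG, act_one hF hc hG]
      refine ih (fun c' hc' => hl c' (List.mem_cons_of_mem c hc')) (moved c p) ?_ ?_ ?_
      · rw [moved, wT_eq hW h1]; exact w_lt hW h1
      · rw [moved, wT_eq hW h2]; exact w_lt hW h2
      · rw [← e2, ← e, act_br hF hc hG]
        refine br_congr hF hc hG ?_ ?_
        · rw [map_act hF hc hG hWm, map_lf hF hc hG h1, nw_conj hF hc hG hW h1, moved, wT_eq hW h1,
            map_lf hF hc hG (w_lt hW h1)]
        · rw [map_act hF hc hG hWm, map_lf hF hc hG h2, nw_conj hF hc hG hW h2, moved, wT_eq hW h2,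
            map_lf hF hc hG (w_lt hW h2)]
  obtain ⟨hda, hdb, -, -, -, -⟩ := dec_spec hF hc hG ht
  have key := hfix _ hst (dec t) hda hdb rfl
  split at hk
  · rw [beq_iff_eq] at hk
    rw [hk] at key
    exact key
  · simp only [Bool.and_eq_true, beq_iff_eq] at hk
    rw [hk.1] at key
    have : br (lf Ψ a) (lf Ψ b) = (br (lf Ψ b) (lf Ψ a))⁻¹ := by simp only [br]; group
    rw [this, key, inv_eq_of_mul_eq_one_right (nlift_sq hF hc hG ht)]

theorem nlift_equi {i t : ℕ} (hi : i < 4) (ht : t < 48) :
    pre Ψ (nr F i) * nlift Ψ t * (pre Ψ (nr F i))⁻¹ = nlift Ψ (chevF4.reflectRoot i t) := by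
  obtain ⟨ha, hb, -, -, -, hr⟩ := dec_spec hF hc hG ht
  obtain ⟨h1, h2⟩ := hr i hi
  have hm : ∀ {r : ℕ}, r < 48 → refl i r < 48 := fun {r} h => by
    rw [refl_eq hi h]; exact hC.reflect_lt hi h
  rw [refl_eq hi ha, refl_eq hi hb, refl_eq hi ht] at h2
  rw [refl_eq hi ha, refl_eq hi hb] at h1
  show act Ψ (nr F i) (br _ _) = _
  rw [act_br hF hc hG]
  exact br_eq_nlift hF hc hG (hC.reflect_lt hi ha) (hC.reflect_lt hi hb) h1 h2
    (by rw [map_act hF hc hG (nr_mem hF hc hG hi), map_lf hF hc hG ha, nr_conj hF hi ha])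
    (by rw [map_act hF hc hG (nr_mem hF hc hG hi), map_lf hF hc hG hb, nr_conj hF hi hb])

/-- The normalised lifts have the relations up to a central involution. -/
theorem exists_lifts : ∃ (z : E) (X : ℕ → E), z ∈ Ψ.ker ∧ z * z = 1 ∧
    (∀ r < 48, Ψ (X r) = xr F r) ∧ (∀ r < 48, X r * X r = 1) ∧
    ∀ r < 48, ∀ s < 48, off r s = true → ∃ c ∈ Subgroup.zpowers z, IsRel X c r s := by
  classical
  obtain ⟨hrep, htm10, htm11, hsw⟩ : (∀ k < 12, (repList.getD k (0, 0)).1 < 48 ∧
      (repList.getD k (0, 0)).2 < 48 ∧ off (repList.getD k (0, 0)).1 (repList.getD k (0, 0)).2 = true ∧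
      (k < 8 → com (repList.getD k (0, 0)).1 (repList.getD k (0, 0)).2 = true) ∧
      (k = 8 ∨ k = 9 → (tm (repList.getD k (0, 0)).1 (repList.getD k (0, 0)).2).length = 1)) ∧
      tm 0 29 = [3, 6] ∧ (repList.getD 10 (0, 0) = (0, 29) ∧ repList.getD 11 (0, 0) = (3, 41) ∧
        tm 3 41 = [18, 0]) ∧ (get2 orbTab 29 0 % 12 = 11 ∧ get2 orbTab 0 29 % 12 = 10 ∧
        tm 29 0 = [3, 6] ∨ get2 orbTab 29 0 % 12 = 11 ∧ get2 orbTab 0 29 % 12 = 10 ∧
        tm 29 0 = [6, 3]) := by decide +kernel
  set X := nlift Ψ with hX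
  have hmap : ∀ {r}, r < 48 → Ψ (X r) = xr F r := fun {r} hr => map_nlift hF hc hG hr
  have hdef : ∀ r s, X s * X r = X r * X s * br (X r) (X s) := fun r s => by simp only [br]; group
  -- the factors at the two pairs with two terms
  let zz : ℕ → ℕ → E := fun r s => br (X r) (X s) * (((tm r s).map X).prod)⁻¹
  have hzz : ∀ r s, r < 48 → s < 48 → off r s = true → (∀ t ∈ tm r s, t < 48) →
      zz r s ∈ Ψ.ker ∧ IsRel X (zz r s) r s := by
    intro r s hr hs h ht
    have hk : zz r s ∈ Ψ.ker := by
      rw [MonoidHom.mem_ker, map_mul, map_inv, map_br hF hc hG hr hs h (hmap hr) (hmap hs),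
        map_list_prod, List.map_map, mul_inv_eq_one]
      exact congrArg List.prod (List.map_congr_left fun t h' => (hmap (ht t h')).symm)
    refine ⟨hk, ?_⟩
    show X s * X r = _
    rw [← mul_assoc, Lift.comm_central hc hk, hdef r s]
    simp only [zz, mul_assoc, inv_mul_cancel, mul_one]
  set z := zz 0 29 with hz
  set z' := zz 3 41 with hz'
  obtain ⟨hzk, hzr⟩ := hzz 0 29 (by norm_num) (by norm_num) (by decide +kernel) (by
    rw [htm10]; simp)
  obtain ⟨hzk', hzr'⟩ := hzz 3 41 (by norm_num) (by norm_num) (by decide +kernel) (by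
    rw [htm11.2.2]; simp)
  rw [← hz] at hzk hzr
  rw [← hz'] at hzk' hzr'
  have hzc : ∀ g, Commute z g := Lift.comm_central hc hzk
  have hzc' : ∀ g, Commute z' g := Lift.comm_central hc hzk'
  let c : ℕ → E := fun k => if k = 10 then z else if k = 11 then z' else 1
  have hcc : ∀ k g, Commute (c k) g := fun k g => by
    simp only [c]; split_ifs
    exacts [hzc g, hzc' g, Commute.one_left g]
  have hall := rel_all (X := X) (N := fun i => pre Ψ (nr F i))
    (fun i hi r hr => nlift_equi hF hc hG hi hr) hcc (fun k hk => ?_) (fun k hk h => ?_)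
  rotate_left
  · obtain ⟨ha, hb, h, hcom, hone⟩ := hrep k hk
    rcases (by omega : k < 8 ∨ (k = 8 ∨ k = 9) ∨ k = 10 ∨ k = 11) with h8 | h8 | rfl | rfl
    · rw [show c k = 1 by simp [c, show k ≠ 10 by omega, show k ≠ 11 by omega],
        isRel_com (com_iff.1 (hcom h8)).2]
      exact lifts_commute hF hc hG ha hb (hcom h8) (hmap ha) (hmap hb)
    · obtain ⟨t, ht⟩ := List.length_eq_one_iff.1 (hone h8)
      rw [show c k = 1 by rcases h8 with rfl | rfl <;> simp [c], IsRel, one_mul, hdef, ht,
        br_eq_nlift hF hc hG ha hb h ht (hmap ha) (hmap hb)]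
      simp [hX]
    · rw [show c 10 = z from if_pos rfl, htm11.1]; exact hzr
    · rw [show c 11 = z' by simp [c], htm11.2.1]; exact hzr'
  · simp only [c]
    split_ifs with e e'
    · subst e; rw [htm11.1, htm10] at h; simp at h
    · subst e'; rw [htm11.2.1, htm11.2.2] at h; simp at h
    · rfl
  have c36 : Commute (X 3) (X 6) :=
    lifts_commute hF hc hG (by norm_num) (by norm_num) (by decide +kernel) (hmap (by norm_num))
      (hmap (by norm_num))
  have hP : X 3 * X 6 * (X 3 * X 6) = 1 := by
    rw [c36.symm.mul_mul_mul_comm, hX, nlift_sq hF hc hG (by norm_num),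
      nlift_sq hF hc hG (by norm_num), one_mul]
  have hz2 : z * z = 1 := by
    have hb := br_sq hF hc hG (a := 0) (b := 29) (by norm_num) (by norm_num) (by decide +kernel)
      (by rw [htm10]; decide +kernel) (hmap (by norm_num)) (hmap (by norm_num))
    have e : br (X 0) (X 29) = z * (X 3 * X 6) := by
      rw [hz]; simp only [zz, htm10, List.map_cons, List.map_nil, List.prod_cons, List.prod_nil,
        mul_one, inv_mul_cancel_right]
    rw [e, ((hzc (X 3 * X 6)).symm).mul_mul_mul_comm, hP, mul_one] at hb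
    exact hb
  have hzz' : z' = z⁻¹ := by
    have h1 := hall 0 (by norm_num) 29 (by norm_num) (by decide +kernel)
    have h2 := hall 29 (by norm_num) 0 (by norm_num) (by decide +kernel)
    have e2 : c (get2 orbTab 29 0 % 12) = z' ∧ c (get2 orbTab 0 29 % 12) = z ∧
        ((tm 29 0).map X).prod = X 3 * X 6 := by
      rcases hsw with ⟨a, b, e⟩ | ⟨a, b, e⟩ <;> simp [c, a, b, e, c36.eq]
    rw [IsRel, e2.1, e2.2.2] at h2
    rw [IsRel, e2.2.1, htm10] at h1
    simp only [List.map_cons, List.map_nil, List.prod_cons, List.prod_nil, mul_one] at h1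
    rw [h1, mul_assoc z, ← mul_assoc z', mul_assoc (X 0 * X 29), hP, mul_one] at h2
    exact eq_inv_of_mul_eq_one_left (mul_eq_right.1 h2.symm)
  refine ⟨z, X, hzk, hz2, fun r hr => hmap hr, fun r hr => nlift_sq hF hc hG hr,
    fun r hr s hs h => ⟨_, ?_, hall r hr s hs h⟩⟩
  simp only [c]
  split_ifs
  · exact Subgroup.mem_zpowers z
  · rw [hzz']; exact inv_mem (Subgroup.mem_zpowers z)
  · exact one_mem _

end Cfsg.Agent.F4TwoMult
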