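import Cfsg.Agent.Lib.F4TwoMult.Lower
import Cfsg.Agent.Lib.F4TwoMult.Upper
import Cfsg.Prelude.Def_KGroupFacts

/-!
# The multiplier of F4(2)
-/

set_option autoImplicit false
set_option linter.unusedSectionVars false

namespace Cfsg.Agent.F4TwoMult

open Cfsg.Lie Cfsg.Agent.Chevalley Cfsg.Agent.Chevalley.Cover

universe u

variable {F : Type u} [Field F] [Fintype F] (hF : Fintype.card F = 2)
include hF

/-- The kernel of a stem extension is generated by an involution. -/
theorem kernel_gen {Γ : Type u} [Group Γ] {σ : Γ →* ↥(chevF4.group F)}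
    (hσ : IsStemExtension σ) : ∃ z : Γ, z ∈ σ.ker ∧ z * z = 1 ∧ σ.ker ≤ Subgroup.zpowers z := by
  obtain ⟨hs, hcen, hcom⟩ := hσ
  let Ψ : Γ →* GL chevF4.Idx F := (chevF4.group F).subtype.comp σ
  have hker : Ψ.ker = σ.ker := by
    ext x
    simp only [Ψ, MonoidHom.mem_ker, MonoidHom.comp_apply, Subgroup.coe_subtype, OneMemClass.coe_eq_one]
  have hG : chevF4.group F ≤ Ψ.range := fun g hg => by
    obtain ⟨x, hx⟩ := hs ⟨g, hg⟩
    exact ⟨x, congrArg Subtype.val hx⟩
  obtain ⟨z, X, hzk, hz2, hX, hXsq, hrel⟩ := exists_lifts hF (hker ▸ hcen) hG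
  rw [hker] at hzk
  have hzle : Subgroup.zpowers z ≤ σ.ker := Subgroup.zpowers_le.2 hzk
  haveI : (Subgroup.zpowers z).Normal := ⟨fun n hn g => by
    rw [Subgroup.mem_center_iff.1 (hcen (hzle hn)) g, mul_inv_cancel_right]
    exact hn⟩
  let q : Γ →* Γ ⧸ Subgroup.zpowers z := QuotientGroup.mk' _
  obtain ⟨τ, hτ⟩ := Sys.exists_hom hC (fam_rels hF (X := fun r => q (X r))
    (fun r hr => by rw [← map_mul, hXsq r hr, map_one]) fun r hr s hs h => by
      obtain ⟨c, hc, hcr⟩ := hrel r hr s hs h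
      have e := congrArg q hcr
      rw [map_mul, map_mul, map_mul, map_mul, show q c = 1 from (QuotientGroup.eq_one_iff c).2 hc,
        map_list_prod, List.map_map] at e
      exact e)
  obtain ⟨θ, hθ⟩ := exists_theta hF
  let σ' : Γ ⧸ Subgroup.zpowers z →* ↥(chevF4.group F) := QuotientGroup.lift _ σ hzle
  have hσq : ∀ x, σ' (q x) = σ x := fun x => rfl
  have hq : Function.Surjective q := QuotientGroup.mk'_surjective _
  have hσ' : IsStemExtension σ' := by
    refine ⟨fun g => (hs g).imp' q fun x hx => hx, fun x hx => ?_, fun x hx => ?_⟩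
    · obtain ⟨x, rfl⟩ := hq x
      refine Subgroup.mem_center_iff.2 fun y => ?_
      obtain ⟨y, rfl⟩ := hq y
      rw [← map_mul, ← map_mul, Subgroup.mem_center_iff.1 (hcen hx) y]
    · obtain ⟨x, rfl⟩ := hq x
      have h := Subgroup.mem_map_of_mem q (hcom hx)
      rw [commutator_def, Subgroup.map_commutator, Subgroup.map_top_of_surjective _ hq,
        ← commutator_def] at h
      exact h
  have hτθ : σ'.comp τ = θ.toMonoidHom := Sys.scHom_ext fun r hr t => by
    refine Subtype.ext ?_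
    show ((σ' (τ (chevF4.scGen F r t))) : GL chevF4.Idx F) =
      ((θ (chevF4.scGen F r t) : ↥(chevF4.group F)) : GL chevF4.Idx F)
    rw [hτ r hr, hθ r hr]
    classical
    rcases eq_or hF t with rfl | rfl
    · rw [fam, if_pos rfl, map_one, OneMemClass.coe_one, Group.xg_zero hC]
    · rw [fam, if_neg one_ne_zero, hσq]
      exact hX r hr
  obtain ⟨π, hπ⟩ := Multiplier.stem_kernel_image θ.toMonoidHom θ.surjective hσ' hτθ
  refine ⟨z, hzk, hz2, fun k hk => ?_⟩
  obtain ⟨⟨x, hx⟩, hxk⟩ := hπ ⟨q k, hk⟩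
  obtain rfl : x = 1 := θ.injective (hx.trans (map_one θ).symm)
  have e : (1 : θ.toMonoidHom.ker) = ⟨1, hx⟩ := rfl
  rw [← e, map_one] at hxk
  exact (QuotientGroup.eq_one_iff k).1 (congrArg Subtype.val hxk).symm

/-- The Schur multiplier of F4(2) is cyclic of order two. -/
theorem multiplier : HasCyclicSchurMultiplier ↥(chevF4.group F) 2 := by
  refine ⟨?_, fun Γ _ _ σ hσ => ?_⟩
  · obtain ⟨E, _, _, σ, hσ, hcard⟩ := exists_cover hF
    haveI := Fact.mk Nat.prime_two
    haveI : IsCyclic σ.ker := isCyclic_of_prime_card hcard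
    exact ⟨E, inferInstance, inferInstance, σ, hσ,
      ⟨mulEquivOfCyclicCardEq (hcard.trans (by simp))⟩⟩
  · obtain ⟨z, hzk, hz2, hle⟩ := kernel_gen hF hσ
    let e : σ.ker := ⟨z, hzk⟩
    have he : e ^ 2 = 1 := Subtype.ext (by rw [Subgroup.coe_pow, Subgroup.coe_one, pow_two]; exact hz2)
    let π : Multiplicative (ZMod 2) →* σ.ker :=
      MonoidHom.mk' (fun t => e ^ t.toAdd.val) fun s t => by
        change e ^ (s.toAdd + t.toAdd).val = e ^ s.toAdd.val * e ^ t.toAdd.val
        rw [← pow_add, ZMod.val_add, ← pow_eq_pow_mod _ he]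
    refine ⟨π, fun x => ?_⟩
    obtain ⟨k, hk⟩ := Subgroup.mem_zpowers_iff.1 (hle x.2)
    refine ⟨Multiplicative.ofAdd (1 : ZMod 2) ^ k, ?_⟩
    rw [map_zpow, show π (Multiplicative.ofAdd 1) = e from pow_one e]
    exact Subtype.ext hk

end Cfsg.Agent.F4TwoMult
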