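import Cfsg.Agent.Lib.F4TwoMult.Packed
import Cfsg.Agent.Lib.F4TwoMult.Tables

/-!
# What is checked for the matrices
-/

set_option autoImplicit false

namespace Cfsg.Agent.F4TwoMult

/-- The packed matrix of a root. -/
def xP (r : ℕ) : List ℕ := xList.getD r []

/-- The packed matrix of a fundamental monomial element. -/
def nP (i : ℕ) : List ℕ := nList.getD i []

/-- A reflection read off the packed table. -/
def reflP (i r : ℕ) : ℕ := reflList.getD i 0 / 256 ^ r % 256

/-- The matrices are valid, and those of the roots are involutions. -/
def sqOK (r : ℕ) : Bool := validP (xP r) && mulP (xP r) (xP r) == oneP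

/-- The reflection permutes the matrices of the roots. -/
def equiOK (i r : ℕ) : Bool := mulP (nP i) (xP r) == mulP (xP (reflP i r)) (nP i)

/-- The left side of a relation. -/
def lhsP (r s : ℕ) : List ℕ := mulP (xP s) (xP r)

/-- The right side of a relation with the given roots, up to sign. -/
def rhsP (r s : ℕ) (l : List ℕ) : List ℕ := l.foldl (fun A t => mulP A (xP t)) (mulP (xP r) (xP s))

/-- The relation of a pair, with or without a sign. -/
def relOK (r s : ℕ) (l : List ℕ) (neg : Bool) : Bool :=
  lhsP r s == if neg then mulP (rhsP r s l) negP else rhsP r s l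

end Cfsg.Agent.F4TwoMult
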