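import Cfsg.Agent.Lib.F4TwoMult.MatData
import Mathlib.Data.ZMod.Basic
import Mathlib.Data.Matrix.Mul
import Mathlib.Algebra.BigOperators.Fin
import Mathlib.Tactic.Ring
import Mathlib.Data.List.GetD

/-!
# Matrices over thirteen elements with packed rows

A row is one number with sixteen bits to an entry, so that a row of a product is one linear
combination of numbers.
-/

set_option autoImplicit false

namespace Cfsg.Agent.F4TwoMult

/-- An entry of a packed row. -/
def dig (n j : ℕ) : ℕ := n / 65536 ^ j % 65536

/-- Application to the value of a number. -/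
def force {α : Sort*} (n : ℕ) (k : ℕ → α) : α :=
  match n with
  | 0 => k 0
  | m + 1 => k (m + 1)

theorem force_eq {α : Sort*} (n : ℕ) (k : ℕ → α) : force n k = k n := by cases n <;> rfl

/-- The entries of a packed row. -/
def unp : ℕ → ℕ → List ℕ
  | 0, _ => []
  | k + 1, n => force n fun v => v % 65536 :: unp k (v / 65536)

/-- The packed row of a list of entries, reduced. -/
def pkRed : List ℕ → ℕ
  | [] => 0
  | a :: l => force (pkRed l) fun v => a % 13 + 65536 * v

/-- A linear combination of packed rows. -/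
def dot : List ℕ → List ℕ → ℕ
  | a :: as, b :: bs => force (dot as bs) fun v => a * b + v
  | _, _ => 0

/-- The product of two packed matrices. -/
def mulP (A B : List ℕ) : List ℕ := A.map fun a => pkRed (unp 52 (dot (unp 52 a) B))

/-- A matrix with 52 rows of 52 reduced entries. -/
def validP (A : List ℕ) : Bool :=
  A.length == 52 && A.all fun a => decide (a < 65536 ^ 52) && (unp 52 a).all fun x => decide (x < 13)

/-- The identity. -/
def oneP : List ℕ := (List.range 52).map fun i => 65536 ^ i

/-- Minus the identity. -/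
def negP : List ℕ := (List.range 52).map fun i => 12 * 65536 ^ i

/-- The matrix of packed rows. -/
def toMat (A : List ℕ) : Matrix (Fin 52) (Fin 52) (ZMod 13) :=
  Matrix.of fun i j => (dig (A.getD i 0) j : ZMod 13)

theorem unp_getD : ∀ (k n j : ℕ), j < k → (unp k n).getD j 0 = dig n j
  | 0, _, j, h => absurd h (Nat.not_lt_zero j)
  | k + 1, n, 0, _ => by simp [unp, dig, force_eq]
  | k + 1, n, j + 1, h => by
    rw [unp, force_eq, List.getD_cons_succ, unp_getD k _ j (by omega), dig, dig, Nat.div_div_eq_div_mul,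
      ← pow_succ']

theorem length_unp : ∀ (k n : ℕ), (unp k n).length = k
  | 0, _ => rfl
  | k + 1, n => by simp [unp, force_eq, length_unp k]

theorem dig_pkRed : ∀ (l : List ℕ) (j : ℕ), j < l.length → dig (pkRed l) j = l.getD j 0 % 13
  | [], j, h => absurd h (Nat.not_lt_zero j)
  | a :: l, 0, _ => by
    simp only [dig, pkRed, force_eq, pow_zero, Nat.div_one, List.getD_cons_zero, Nat.add_mul_mod_self_left]
    omega
  | a :: l, j + 1, h => by
    have h1 : (a % 13 + 65536 * pkRed l) / 65536 = pkRed l := by omega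
    rw [dig, pkRed, force_eq, pow_succ', ← Nat.div_div_eq_div_mul, h1, List.getD_cons_succ]
    exact dig_pkRed l j (by simpa using h)

theorem pkRed_lt : ∀ l : List ℕ, pkRed l < 65536 ^ l.length
  | [] => by simp [pkRed]
  | a :: l => by
    have := pkRed_lt l
    rw [pkRed, force_eq, List.length_cons, pow_succ']
    omega

theorem dig_sum : ∀ (n : ℕ) (f : ℕ → ℕ), (∀ i < n, f i < 65536) → ∀ j < n,
    dig (∑ i ∈ Finset.range n, f i * 65536 ^ i) j = f j
  | 0, _, _, j, h => absurd h (Nat.not_lt_zero j)
  | n + 1, f, hf, j, hj => by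
    have e : ∑ i ∈ Finset.range (n + 1), f i * 65536 ^ i =
        f 0 + 65536 * ∑ i ∈ Finset.range n, f (i + 1) * 65536 ^ i := by
      rw [Finset.sum_range_succ', Finset.mul_sum, pow_zero, mul_one, add_comm]
      congr 1
      exact Finset.sum_congr rfl fun i _ => by ring
    rw [e]
    cases j with
    | zero =>
      rw [dig, pow_zero, Nat.div_one, Nat.add_mul_mod_self_left, Nat.mod_eq_of_lt (hf 0 (by omega))]
    | succ j =>
      rw [dig, pow_succ', ← Nat.div_div_eq_div_mul, Nat.add_mul_div_left _ _ (by norm_num),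
        Nat.div_eq_of_lt (hf 0 (by omega)), zero_add]
      exact dig_sum n (fun i => f (i + 1)) (fun i hi => hf (i + 1) (by omega)) j (by omega)

theorem eq_sum_dig : ∀ (n a : ℕ), a < 65536 ^ n → a = ∑ i ∈ Finset.range n, dig a i * 65536 ^ i
  | 0, a, h => by simpa using h
  | n + 1, a, h => by
    have h' : a / 65536 < 65536 ^ n := by
      rw [Nat.div_lt_iff_lt_mul (by norm_num), ← pow_succ]; exact h
    rw [Finset.sum_range_succ', show dig a 0 * 65536 ^ 0 = a % 65536 by simp [dig]]
    calc a = 65536 * (a / 65536) + a % 65536 := (Nat.div_add_mod a 65536).symm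
      _ = _ := by
        congr 1
        conv_lhs => rw [eq_sum_dig n (a / 65536) h']
        rw [Finset.mul_sum]
        refine Finset.sum_congr rfl fun i _ => ?_
        rw [dig, dig, Nat.div_div_eq_div_mul, ← pow_succ']
        ring

theorem dot_eq : ∀ (as bs : List ℕ) (n : ℕ), as.length = n → bs.length = n →
    dot as bs = ∑ k : Fin n, as.getD k 0 * bs.getD k 0
  | [], [], _, rfl, _ => by simp [dot]
  | [], _ :: _, _, rfl, h => by simp at h
  | a :: as, [], _, rfl, h => by simp at h
  | a :: as, b :: bs, _, rfl, h => by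
    rw [dot, force_eq, dot_eq as bs as.length rfl (by simpa using h)]
    exact (Fin.sum_univ_succ fun k : Fin (as.length + 1) =>
      (a :: as).getD k 0 * (b :: bs).getD k 0).symm

theorem valid_spec {A : List ℕ} (h : validP A = true) :
    A.length = 52 ∧ ∀ i < 52, A.getD i 0 < 65536 ^ 52 ∧ ∀ j < 52, dig (A.getD i 0) j < 13 := by
  simp only [validP, Bool.and_eq_true, beq_iff_eq, List.all_eq_true, decide_eq_true_eq] at h
  refine ⟨h.1, fun i hi => ?_⟩
  rw [List.getD_eq_getElem A 0 (h.1.symm ▸ hi)]
  obtain ⟨h1, h2⟩ := h.2 _ (List.getElem_mem (h.1.symm ▸ hi))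
  refine ⟨h1, fun j hj => ?_⟩
  rw [← unp_getD 52 _ j hj, List.getD_eq_getElem _ _ ((length_unp 52 _).symm ▸ hj)]
  exact h2 _ (List.getElem_mem _)

theorem validP_mulP {A : List ℕ} (hA : A.length = 52) (B : List ℕ) :
    validP (mulP A B) = true := by
  simp only [validP, mulP, List.length_map, hA, Bool.and_eq_true, beq_iff_eq, List.all_eq_true,
    decide_eq_true_eq, List.mem_map, forall_exists_index, and_imp, forall_apply_eq_imp_iff₂]
  refine ⟨trivial, fun a _ => ⟨(pkRed_lt _).trans_eq (by rw [length_unp]), fun x hx => ?_⟩⟩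
  obtain ⟨j, hj, rfl⟩ := List.mem_iff_getElem.1 hx
  have hj' : j < 52 := (length_unp 52 _) ▸ hj
  rw [← List.getD_eq_getElem _ 0 hj, unp_getD 52 _ j hj', dig_pkRed _ _ (by rwa [length_unp])]
  exact Nat.mod_lt _ (by norm_num)

theorem toMat_mulP {A B : List ℕ} (hA : validP A = true) (hB : validP B = true) :
    toMat (mulP A B) = toMat A * toMat B := by
  obtain ⟨lA, dA⟩ := valid_spec hA
  obtain ⟨lB, dB⟩ := valid_spec hB
  ext i j
  have hi : (i : ℕ) < A.length := lA.symm ▸ i.2
  show (dig ((mulP A B).getD i 0) j : ZMod 13) = _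
  have e : (mulP A B).getD i 0 = pkRed (unp 52 (dot (unp 52 (A.getD i 0)) B)) := by
    unfold mulP
    rw [List.getD_eq_getElem _ _ (by rw [List.length_map]; exact hi), List.getElem_map,
      List.getD_eq_getElem _ _ hi]
  rw [e, dig_pkRed _ _ (by rw [length_unp]; exact j.2), unp_getD 52 _ _ j.2,
    ZMod.natCast_mod]
  have hdot : dot (unp 52 (A.getD i 0)) B = ∑ t ∈ Finset.range 52,
      (∑ k : Fin 52, dig (A.getD i 0) k * dig (B.getD k 0) t) * 65536 ^ t := by
    rw [dot_eq _ _ 52 (length_unp 52 _) lB]
    simp only [Finset.sum_mul]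
    rw [Finset.sum_comm]
    refine Finset.sum_congr rfl fun k _ => ?_
    rw [unp_getD 52 _ _ k.2]
    conv_lhs => rw [eq_sum_dig 52 _ (dB k k.2).1, Finset.mul_sum]
    exact Finset.sum_congr rfl fun t _ => by ring
  rw [hdot, dig_sum 52 _ (fun t ht => ?_) j j.2, Nat.cast_sum]
  · simp only [Matrix.mul_apply, toMat, Matrix.of_apply, Nat.cast_mul]
  · have hb : ∀ k ∈ (Finset.univ : Finset (Fin 52)),
        dig (A.getD i 0) k * dig (B.getD k 0) t ≤ 144 := fun k _ =>
      Nat.mul_le_mul (Nat.le_of_lt_succ ((dA i i.2).2 k k.2))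
        (Nat.le_of_lt_succ ((dB k k.2).2 t ht))
    have := Finset.sum_le_card_nsmul _ _ _ hb
    simp only [Finset.card_univ, Fintype.card_fin, smul_eq_mul] at this
    omega

theorem valid_one : validP oneP = true := by decide +kernel

theorem valid_negP : validP negP = true := by decide +kernel

theorem oneP_entries : ((List.range 52).all fun i => (List.range 52).all fun j =>
    (dig (oneP.getD i 0) j == if i = j then 1 else 0) &&
      (dig (negP.getD i 0) j == if i = j then 12 else 0)) = true := by decide +kernel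

theorem toMat_one : toMat oneP = 1 ∧ toMat negP = -1 := by
  have h := fun i j : Fin 52 => by
    have := List.all_eq_true.1 (List.all_eq_true.1 oneP_entries i (List.mem_range.2 i.2)) j
      (List.mem_range.2 j.2)
    simpa only [Bool.and_eq_true, beq_iff_eq] using this
  constructor <;> ext i j
  · show (dig (oneP.getD i 0) j : ZMod 13) = _
    rw [(h i j).1, Matrix.one_apply]
    by_cases e : i = j
    · simp [e]
    · simp [e, Fin.val_inj]
  · show (dig (negP.getD i 0) j : ZMod 13) = _
    rw [(h i j).2, Matrix.neg_apply, Matrix.one_apply]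
    by_cases e : i = j
    · simp only [e, if_true]; rfl
    · simp [e, Fin.val_inj]

end Cfsg.Agent.F4TwoMult
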