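import Cfsg.Agent.Lib.F4TwoMult.Base
import Cfsg.Agent.Lib.Chevalley.Cover.SmallFields
import Cfsg.Agent.Lib.Chevalley.Types.OrderF4

/-!
# F4(2) as the presented group

The presented group maps isomorphically to the matrix group, so a family with the relations at
parameter one gives a map out of F4(2).
-/

set_option autoImplicit false
set_option maxRecDepth 20000

namespace Cfsg.Agent.F4TwoMult

open Cfsg.Lie Cfsg.Agent.Chevalley Cfsg.Agent.Chevalley.Cert Cfsg.Agent.Chevalley.Group
  Cfsg.Agent.Chevalley.StKernel Cfsg.Agent.Chevalley.Cover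

universe u

theorem terms_pos : ∀ r s : ℕ, ∀ c ∈ chevF4.commTerms r s, 0 < c.2.2.1 ∧ 0 < c.2.2.2 := by
  intro r s c hc
  simp only [ChevalleyDatum.commTerms, List.mem_filterMap, List.mem_cons, List.not_mem_nil,
    or_false] at hc
  obtain ⟨q, hq, hc⟩ := hc
  obtain ⟨k, -, rfl⟩ := Option.map_eq_some_iff.1 hc
  rcases hq with rfl | rfl | rfl | rfl | rfl | rfl | rfl <;> exact ⟨by norm_num, by norm_num⟩

variable {F : Type u} [Field F] [Fintype F] (hF : Fintype.card F = 2)

/-- The family over the field given by its values at one. -/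
noncomputable def fam {H : Type*} [Group H] (F : Type u) [Field F] (X : ℕ → H) (r : ℕ) (t : F) :
    H := by
  classical exact if t = 0 then 1 else X r

include hF

/-- A family with the relations at one has all relations. -/
theorem fam_rels {H : Type*} [Group H] {X : ℕ → H} (hsq : ∀ r < 48, X r * X r = 1)
    (hrel : ∀ r < 48, ∀ s < 48, off r s = true → IsRel X 1 r s) :
    Sys.Rels chevF4 (fam F X) := by
  classical
  haveI := charP_two hF
  have h0 : ∀ k, fam F X k (0 : F) = 1 := fun k => if_pos rfl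
  have h1 : ∀ k, fam F X k (1 : F) = X k := fun k => if_neg one_ne_zero
  refine ⟨fun r hr t u => ?_, fun r hr s hs hne hnn t u => ?_⟩
  · rcases eq_or hF t with rfl | rfl <;> rcases eq_or hF u with rfl | rfl <;>
      simp [h0, h1, CharTwo.add_self_eq_zero, hsq r hr]
  have hzero : (t = 0 ∨ u = 0) →
      ((chevF4.commWord F r s t u).map fun p => fam F X p.1 p.2).prod = 1 := fun htu => by
    refine List.prod_eq_one fun g hg => ?_
    simp only [ChevalleyDatum.commWord, List.map_map, List.mem_map, Function.comp_apply] at hg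
    obtain ⟨c, hc, rfl⟩ := hg
    obtain ⟨hi, hj⟩ := terms_pos r s c hc
    rcases htu with rfl | rfl <;> simp [h0, zero_pow hi.ne', zero_pow hj.ne', CharTwo.neg_eq]
  rcases eq_or hF t with rfl | rfl
  · rw [hzero (Or.inl rfl), h0]; simp
  rcases eq_or hF u with rfl | rfl
  · rw [hzero (Or.inr rfl), h0]; simp
  rw [word_prod hF h0 h1, h1, h1]
  have h := hrel r hr s hs (off_iff.2 ⟨hne, hnn⟩)
  rwa [IsRel, one_mul] at h

/-- The natural map of the presented group is an isomorphism onto F4(2). -/
theorem exists_theta : ∃ θ : chevF4.SteinbergCover F ≃* ↥(chevF4.group F),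
    ∀ r < 48, ∀ t, ((θ (chevF4.scGen F r t) : ↥(chevF4.group F)) : GL chevF4.Idx F) =
      xg hC r t := by
  have hT : HasCerts Cfsg.Agent.Chevalley.Data.F4.tab :=
    ⟨⟨_, Types.CoefF4.coef_ok⟩, ⟨_, Types.StCerts.conj_F4⟩⟩
  haveI := Multiplier.finite_cover (F := F) hC hT K2.sym_F4
  obtain ⟨e, -⟩ := K2.exists_iso (F := F) hC hT K2.sym_F4
  have hrange := th_range (Sys.scSys (F := F) hC)
  let θ : chevF4.SteinbergCover F →* ↥(chevF4.group F) :=
    (Sys.th hC).codRestrict _ fun x => hrange ▸ ⟨x, rfl⟩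
  have hθ : Function.Surjective θ := by
    rintro ⟨y, hy⟩
    rw [← hrange] at hy
    obtain ⟨x, hx⟩ := hy
    exact ⟨x, Subtype.ext hx⟩
  have hinj : Function.Injective θ := by
    rw [← MonoidHom.ker_eq_bot_iff, MonoidHom.ker_codRestrict, eq_bot_iff]
    intro x hx
    have h2 : e x ∈ Subgroup.center (chevF4.SteinbergGroup F) :=
      Subgroup.mem_center_iff.2 fun y => by
        obtain ⟨y, rfl⟩ := e.surjective y
        rw [← map_mul, ← map_mul,
          Subgroup.mem_center_iff.1 (StKernel.ker_le_center (Sys.scSys (F := F) hC) hT hx) y]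
    rw [StSteinberg.center_eq_bot hC hT
      (M' := Types.OrderF4.Q * Types.OrderF4.P) (by decide +kernel), Subgroup.mem_bot] at h2
    exact Subgroup.mem_bot.2 (e.injective (h2.trans (map_one e).symm))
  exact ⟨MulEquiv.ofBijective θ ⟨hinj, hθ⟩, fun r hr t => Sys.th_gen hC r hr t⟩

end Cfsg.Agent.F4TwoMult
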